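import Cfsg.Agent.H337.JankoOfHyp
import Cfsg.Agent.KFacts.J4.Base
import Cfsg.Agent.S1703

/-!
# The fourth Janko group is of Janko-four type

`isOfJankoFourType_of_isoJ4` : `Spor.IsoJ4 G → IsOfJankoFourType G`.
-/

set_option autoImplicit false

namespace Cfsg.Agent.H337

/-- A group isomorphic to `J₄` is finite. -/
theorem finite_of_isoJ4 {G : Type*} [Group G] (h : Cfsg.Spor.IsoJ4 G) : Finite G := by
  obtain ⟨e⟩ := h
  have h1 : Nat.card G ≠ 0 := by
    rw [Nat.card_congr e.toEquiv, Cfsg.Agent.S1703.result.2]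
    norm_num
  exact Nat.finite_of_card_ne_zero h1

/-- **A group isomorphic to `J₄` is of Janko-four type.** -/
theorem isOfJankoFourType_of_isoJ4 {G : Type*} [Group G] (h : Cfsg.Spor.IsoJ4 G) :
    Cfsg.IsOfJankoFourType G := by
  have := finite_of_isoJ4 h
  obtain ⟨t, Q, N, M, H⟩ := Cfsg.Agent.KFacts.J4.Transport.exists_hyp_of_iso h
  exact ⟨t, JankoOfHyp.isOfJankoFourTypeAt H⟩

end Cfsg.Agent.H337
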