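import Cfsg.Agent.H337.GTwoMat

/-!
# Elimination of `G₂(q)`: one class of elements of order 3, small centralisers
-/

set_option autoImplicit false

namespace Cfsg.Agent.H337.GTwoElim

open Cfsg Cfsg.Lie Cfsg.Agent.ClassificationK.GTwoChev Cfsg.Agent.ChevalleyStructure.SL2Hom
open Cfsg.Agent.H337.GTwoMat

variable {F : Type} [Field F] [Fintype F]

/-- the image of the long root `SL₂` centralises the element of order 3 of the short root `SL₂` -/
noncomputable def toC (F : Type) [Field F] : Matrix.SpecialLinearGroup (Fin 2) F →*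
    Subgroup.centralizer ({ph7 F (y3 F)} : Set ↥(chevG2.group F)) :=
  (ph11 F).codRestrict _ (fun g => Subgroup.mem_centralizer_singleton_iff.2 (comm g (y3 F)))

instance finG : Finite ↥(chevG2.group F) :=
  Finite.of_injective (fun g => mat g) mat_injective

theorem card_dvd : Nat.card F ∣ Nat.card (Subgroup.centralizer ({ph7 F (y3 F)} : Set ↥(chevG2.group F))) := by
  have hup : ∀ s t : F, up s * up t = up (s + t) := by
    intro s t
    apply Subtype.ext
    rw [Matrix.SpecialLinearGroup.coe_mul]
    show !![1, s; 0, 1] * !![1, t; 0, 1] = !![1, s + t; 0, 1]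
    simp only [Matrix.mul_fin_two]
    ext i j
    fin_cases i <;> fin_cases j <;> simp [add_comm]
  let f : Multiplicative F →* Subgroup.centralizer ({ph7 F (y3 F)} : Set ↥(chevG2.group F)) :=
    { toFun := fun t => toC F (up t.toAdd)
      map_one' := by
        have : up (Multiplicative.toAdd (1 : Multiplicative F)) = 1 := by
          apply Subtype.ext
          rw [Matrix.SpecialLinearGroup.coe_one, Matrix.one_fin_two]; rfl
        rw [this, map_one]
      map_mul' := by
        intro s t
        rw [← map_mul, hup]; rfl }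
  have hf : Function.Injective f := by
    intro s t h
    have h1 : ph11 F (up s.toAdd) = ph11 F (up t.toAdd) := congrArg Subtype.val h
    exact Multiplicative.toAdd.injective (up11_injective h1)
  have h2 := Subgroup.card_dvd_of_injective f hf
  rwa [Nat.card_congr (Multiplicative.toAdd (α := F))] at h2

theorem thirtyone_dvd (hF : Fintype.card F = 32) :
    31 ∣ Nat.card (Subgroup.centralizer ({ph7 F (y3 F)} : Set ↥(chevG2.group F))) := by
  have hu : Nat.card Fˣ = 31 := by
    rw [Nat.card_units, Nat.card_eq_fintype_card, hF]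
  obtain ⟨l, hl⟩ : ∃ l : Fˣ, l ≠ 1 := by
    by_contra hcon
    push Not at hcon
    have : Subsingleton Fˣ := ⟨fun a b => by rw [hcon a, hcon b]⟩
    rw [Nat.card_of_subsingleton (1 : Fˣ)] at hu
    omega
  have h31 : l ^ 31 = 1 := by rw [← hu]; exact pow_card_eq_one'
  have p31 : Fact (Nat.Prime 31) := ⟨by norm_num⟩
  have hl2 : (l : F) ^ 2 ≠ 1 := by
    intro h
    apply hl
    have h2 : l ^ 2 = 1 := Units.ext (by simpa using h)
    calc l = l ^ (31 - 2 * 15) := by norm_num
      _ = 1 := by
        have : l ^ 31 = (l ^ 2) ^ 15 * l := by rw [← pow_mul, ← pow_succ]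
        rw [h2, one_pow, one_mul, h31] at this
        norm_num
        exact this.symm
  have h1 : toC F (dg l) ≠ 1 := by
    intro h
    exact ph11_dg_ne hl2 (congrArg Subtype.val h)
  have h2 : orderOf (toC F (dg l)) = 31 := orderOf_eq_prime (by
    rw [← map_pow, dg_pow, h31, dg_one, map_one]) h1
  rw [← h2]
  exact orderOf_dvd_natCard _

theorem isConj_map {S T : Type*} [Group S] [Group T] (e : S ≃* T) {a b : S} (h : IsConj a b) :
    IsConj (e a) (e b) := e.toMonoidHom.map_isConj h

theorem card_cent {S T : Type*} [Group S] [Group T] (e : S ≃* T) (x : S) :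
    Nat.card (Subgroup.centralizer ({x} : Set S)) = Nat.card (Subgroup.centralizer ({e x} : Set T)) := by
  apply Nat.card_congr
  refine ⟨fun g => ⟨e g, ?_⟩, fun g => ⟨e.symm g, ?_⟩, ?_, ?_⟩
  · have := Subgroup.mem_centralizer_singleton_iff.1 g.2
    apply Subgroup.mem_centralizer_singleton_iff.2
    rw [← map_mul, this, map_mul]
  · have := Subgroup.mem_centralizer_singleton_iff.1 g.2
    apply Subgroup.mem_centralizer_singleton_iff.2
    apply e.injective
    rw [map_mul, map_mul, e.apply_symm_apply, this]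
  · intro g; apply Subtype.ext; exact e.symm_apply_apply _
  · intro g; apply Subtype.ext; exact e.apply_symm_apply _

/-- **Elimination of `G₂(q)`.** -/
theorem elim {S : Type*} [Group S] (h3 : Fintype.card F % 3 ≠ 0) (h1 : 3 ≤ Fintype.card F)
    (hcard : Nat.card ↥(Lie.chevG2.group F) =
      Fintype.card F ^ 6 * (Fintype.card F ^ 2 - 1) * (Fintype.card F ^ 6 - 1))
    (e : S ≃* ↥(chevG2.group F))
    (hcl : ∀ x y : S, orderOf x = 3 → orderOf y = 3 → IsConj x y)
    (hC : ∀ x : S, orderOf x = 3 → Nat.card (Subgroup.centralizer ({x} : Set S)) ∣ 2661120)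
    (h11 : 11 ∣ Nat.card S) : False := by
  have h3F : (3 : F) ≠ 0 := by
    intro h
    apply h3
    obtain ⟨p, hch⟩ := CharP.exists F
    obtain ⟨n, hp, hc⟩ := FiniteField.card F p
    have h4 : p ∣ 3 := by
      rw [← CharP.cast_eq_zero_iff F p 3]
      exact_mod_cast h
    have h5 : p = 3 := (Nat.prime_dvd_prime_iff_eq hp Nat.prime_three).1 h4
    rw [hc, h5]
    exact Nat.mod_eq_zero_of_dvd (dvd_pow_self 3 n.2.ne')
  have h2 : (2 : F) = 0 := by
    by_contra h2
    apply not_isConj h2 h3F
    have h6 := hcl (e.symm (ph11 F (y3 F))) (e.symm (ph7 F (y3 F))) (by rw [MulEquiv.orderOf_eq, ord11])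
      (by rw [MulEquiv.orderOf_eq, ord7])
    have h7 := isConj_map e h6
    rwa [e.apply_symm_apply, e.apply_symm_apply] at h7
  have hd : Nat.card (Subgroup.centralizer ({ph7 F (y3 F)} : Set ↥(chevG2.group F))) ∣ 2661120 := by
    have h6 := hC (e.symm (ph7 F (y3 F))) (by rw [MulEquiv.orderOf_eq, ord7])
    rwa [card_cent e, e.apply_symm_apply] at h6
  -- the order of the field is `2 ^ a`
  obtain ⟨a, ha⟩ : ∃ a : ℕ, Fintype.card F = 2 ^ a := by
    obtain ⟨p, hch⟩ := CharP.exists F
    obtain ⟨n, hp, hc⟩ := FiniteField.card F p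
    have h4 : p ∣ 2 := by
      rw [← CharP.cast_eq_zero_iff F p 2]
      exact_mod_cast h2
    have h5 : p = 2 := (Nat.prime_dvd_prime_iff_eq hp Nat.prime_two).1 h4
    exact ⟨n, by rw [hc, h5]⟩
  have h8 : 2 ^ a ∣ 2661120 := by
    rw [← ha, ← Nat.card_eq_fintype_card]
    exact card_dvd.trans hd
  have ha8 : a < 9 := by
    by_contra hcon
    have h9 : 2 ^ 9 ∣ 2661120 := (pow_dvd_pow 2 (by omega)).trans h8
    revert h9
    decide
  rw [Nat.card_congr e.toEquiv, hcard, ha] at h11
  rw [ha] at h1
  have h5 : a = 5 := by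
    interval_cases a <;> first | rfl | (exfalso; revert h11; decide) | (exfalso; revert h1; decide)
  subst h5
  have h31 := (thirtyone_dvd (F := F) (by rw [ha]; norm_num)).trans hd
  revert h31
  decide

end Cfsg.Agent.H337.GTwoElim
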