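import Cfsg.Agent.ClassificationK.GTwoChev

/-!
# Two elements of order 3 in `G₂(q)` with different traces
-/

set_option autoImplicit false

namespace Cfsg.Agent.H337.GTwoMat

open Cfsg Cfsg.Lie Cfsg.Agent.ClassificationK.GTwoChev Cfsg.Agent.ChevalleyStructure.SL2Hom

/-- the matrix `x_r(t)` over a commutative ring -/
def xR (R : Type*) [CommRing R] (r : Fin chevG2.nroots) (t : R) : Matrix chevG2.Idx chevG2.Idx R :=
  Matrix.of fun row col =>
    match col with
    | Sum.inl i =>
      (match row with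
       | Sum.inl i' => if i' = i then 1 else 0
       | Sum.inr u => if u = r then - (((chevG2.cartanSR.getD i.val #[]).getD r.val 0 : ℤ) : R) * t else 0)
    | Sum.inr s =>
      if s = r then (match row with | Sum.inr u => if u = r then 1 else 0 | Sum.inl _ => 0)
      else if s.val = chevG2.negIdx.getD r.val 0 then
        (match row with
         | Sum.inl i => (((chevG2.coroot.getD r.val #[]).getD i.val 0 : ℤ) : R) * t
         | Sum.inr u => if u = s then 1 else if u = r then -(t ^ 2) else 0)
      else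
        (match row with
         | Sum.inl _ => 0
         | Sum.inr u => (if u = s then 1 else 0) +
             ((chevG2.chainCoeff r.val s.val u.val).map fun km => ((km.2 : ℤ) : R) * t ^ km.1).sum)

theorem xR_eq (F : Type*) [Field F] (r : Fin chevG2.nroots) (t : F) : chevG2.xMat F r t = xR F r t := by
  ext row col
  unfold ChevalleyDatum.xMat xR
  rw [Matrix.of_apply, Matrix.of_apply]
  rcases col with i | s <;> rcases row with i' | u <;> rfl

theorem xR_map {R S : Type*} [CommRing R] [CommRing S] (f : R →+* S) (r : Fin chevG2.nroots) (t : R) :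
    (xR R r t).map f = xR S r (f t) := by
  ext row col
  rw [Matrix.map_apply]
  unfold xR
  rw [Matrix.of_apply, Matrix.of_apply]
  rcases col with i | s
  · rcases row with i' | u
    · simp only
      split_ifs <;> simp
    · simp only
      split_ifs <;> simp
  · simp only
    split_ifs
    · rcases row with i' | u
      · simp
      · simp only
        split_ifs <;> simp
    · rcases row with i' | u
      · simp
      · simp only
        split_ifs <;> simp
    · rcases row with i' | u
      · simp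
      · simp only [map_add, map_list_sum, List.map_map]
        congr 1
        · split_ifs <;> simp
        · congr 1
          apply List.map_congr_left
          intro km _
          simp

variable {F : Type*} [Field F]

theorem x_eq (r : ℕ) (hr : r < chevG2.nroots) (n : ℤ) :
    chevG2.x F r (n : F) = (xR ℤ ⟨r, hr⟩ n).map (Int.castRingHom F) := by
  rw [xR_map]
  unfold ChevalleyDatum.x
  rw [dif_pos hr, xR_eq]
  rfl

/-- an element of order 3 of `SL₂` -/
def y3 (F : Type*) [Field F] : Matrix.SpecialLinearGroup (Fin 2) F := lo 1 * up (-3)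

theorem y3_cube : y3 F ^ 3 = 1 := by
  apply Subtype.ext
  rw [Matrix.SpecialLinearGroup.coe_pow]
  have h : ((y3 F : Matrix.SpecialLinearGroup (Fin 2) F) : Matrix (Fin 2) (Fin 2) F) = !![1, -3; 1, -2] := by
    unfold y3
    rw [Matrix.SpecialLinearGroup.coe_mul]
    show !![1, 0; 1, 1] * !![1, -3; 0, 1] = _
    simp only [Matrix.mul_fin_two]
    congr 1
    ext i j
    fin_cases i <;> fin_cases j <;> norm_num
  rw [h, pow_succ, pow_two]
  simp only [Matrix.mul_fin_two]
  rw [Matrix.SpecialLinearGroup.coe_one, Matrix.one_fin_two]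
  ext i j
  fin_cases i <;> fin_cases j <;> norm_num

/-- the integral matrices -/
def m11 : Matrix chevG2.Idx chevG2.Idx ℤ := xR ℤ ⟨0, by decide⟩ 1 * xR ℤ ⟨11, by decide⟩ (-3)
def m7 : Matrix chevG2.Idx chevG2.Idx ℤ := xR ℤ ⟨4, by decide⟩ 1 * xR ℤ ⟨7, by decide⟩ (-3)

theorem mat_y11 : mat (ph11 F (y3 F)) = m11.map (Int.castRingHom F) := by
  unfold y3 m11
  rw [map_mul, mat_mul, m11u, m11l, Matrix.map_mul, ← x_eq, ← x_eq]
  norm_num

theorem mat_y7 : mat (ph7 F (y3 F)) = m7.map (Int.castRingHom F) := by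
  unfold y3 m7
  rw [map_mul, mat_mul, m7u, m7l, Matrix.map_mul, ← x_eq, ← x_eq]
  norm_num

theorem tr11 : m11.trace = -1 := by decide +kernel
theorem tr7 : m7.trace = 5 := by decide +kernel
theorem ent11 : m11 (Sum.inr ⟨0, by decide⟩) (Sum.inr ⟨11, by decide⟩) = -1 := by decide +kernel
theorem ent7 : m7 (Sum.inr ⟨4, by decide⟩) (Sum.inr ⟨7, by decide⟩) = -1 := by decide +kernel

theorem trace_map {n : Type*} [Fintype n] {R S : Type*} [CommRing R] [CommRing S] (f : R →+* S)
    (M : Matrix n n R) : (M.map f).trace = f M.trace := by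
  simp [Matrix.trace]

theorem trace11 : (mat (ph11 F (y3 F))).trace = -1 := by
  rw [mat_y11, trace_map, tr11]; simp

theorem trace7 : (mat (ph7 F (y3 F))).trace = 5 := by
  rw [mat_y7, trace_map, tr7]; simp

theorem ne11 : ph11 F (y3 F) ≠ 1 := by
  intro h
  have h1 := mat_y11 (F := F)
  rw [h, mat_one] at h1
  have h2 := congrFun (congrFun h1 (Sum.inr ⟨0, by decide⟩)) (Sum.inr ⟨11, by decide⟩)
  rw [Matrix.map_apply, ent11, Matrix.one_apply_ne (by decide)] at h2
  simp at h2

theorem ne7 : ph7 F (y3 F) ≠ 1 := by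
  intro h
  have h1 := mat_y7 (F := F)
  rw [h, mat_one] at h1
  have h2 := congrFun (congrFun h1 (Sum.inr ⟨4, by decide⟩)) (Sum.inr ⟨7, by decide⟩)
  rw [Matrix.map_apply, ent7, Matrix.one_apply_ne (by decide)] at h2
  simp at h2

theorem ord11 : orderOf (ph11 F (y3 F)) = 3 := by
  have : Fact (Nat.Prime 3) := ⟨Nat.prime_three⟩
  exact orderOf_eq_prime (by rw [← map_pow, y3_cube, map_one]) ne11

theorem ord7 : orderOf (ph7 F (y3 F)) = 3 := by
  have : Fact (Nat.Prime 3) := ⟨Nat.prime_three⟩
  exact orderOf_eq_prime (by rw [← map_pow, y3_cube, map_one]) ne7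

/-- the two elements are not conjugate in characteristic ≠ 2, 3 -/
theorem not_isConj (h2 : (2 : F) ≠ 0) (h3 : (3 : F) ≠ 0) : ¬ IsConj (ph11 F (y3 F)) (ph7 F (y3 F)) := by
  intro h
  obtain ⟨c, hc⟩ := isConj_iff.1 h
  have h1 : mat c * mat (ph11 F (y3 F)) * mat c⁻¹ = mat (ph7 F (y3 F)) := by
    rw [← mat_mul, ← mat_mul, hc]
  have h4 : (mat (ph11 F (y3 F))).trace = (mat (ph7 F (y3 F))).trace := by
    rw [← h1, Matrix.mul_assoc, Matrix.trace_mul_comm, Matrix.mul_assoc, ← mat_mul, inv_mul_cancel, mat_one,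
      Matrix.mul_one]
  rw [trace11, trace7] at h4
  have h5 : (2 : F) * 3 = 0 := by linear_combination -h4
  rcases mul_eq_zero.1 h5 with h | h
  · exact h2 h
  · exact h3 h

theorem up11_injective : Function.Injective fun t : F => ph11 F (up t) := by
  intro s t h
  have h1 : mat (ph11 F (up s)) = mat (ph11 F (up t)) := congrArg mat h
  rw [m11u, m11u] at h1
  have key : ∀ t : F, chevG2.x F 11 t (Sum.inl ⟨0, by decide⟩) (Sum.inr ⟨0, by decide⟩) = t := by
    intro t
    unfold ChevalleyDatum.x
    rw [dif_pos (by decide)]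
    show (if ((⟨0, by decide⟩ : Fin chevG2.nroots) = ⟨11, by decide⟩) then (0 : F) else
      if (0 : ℕ) = chevG2.negIdx.getD 11 0 then
        (((chevG2.coroot.getD 11 #[]).getD 0 0 : ℤ) : F) * t else 0) = t
    rw [if_neg (by decide), if_pos (by decide)]
    have : (chevG2.coroot.getD 11 #[]).getD 0 0 = 1 := by decide
    rw [this]; simp
  rw [← key s, h1, key t]

/-- diagonal elements -/
def dg (l : Fˣ) : Matrix.SpecialLinearGroup (Fin 2) F := ⟨!![(l : F), 0; 0, ((l⁻¹ : Fˣ) : F)], by simp⟩

theorem dg_mul (l m : Fˣ) : dg l * dg m = dg (l * m) := by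
  apply Subtype.ext
  rw [Matrix.SpecialLinearGroup.coe_mul]
  unfold dg
  simp only [Matrix.mul_fin_two]
  ext i j
  fin_cases i <;> fin_cases j <;> simp [mul_comm]

theorem dg_one : dg (1 : Fˣ) = 1 := by
  apply Subtype.ext
  rw [Matrix.SpecialLinearGroup.coe_one, Matrix.one_fin_two]
  simp [dg]

theorem dg_pow (l : Fˣ) (n : ℕ) : dg l ^ n = dg (l ^ n) := by
  induction n with
  | zero => rw [pow_zero, pow_zero, dg_one]
  | succ n ih => rw [pow_succ, pow_succ, ih, dg_mul]

theorem dg_up (l : Fˣ) (t : F) : dg l * up t = up ((l : F) ^ 2 * t) * dg l := by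
  apply Subtype.ext
  rw [Matrix.SpecialLinearGroup.coe_mul, Matrix.SpecialLinearGroup.coe_mul]
  unfold dg up
  simp only [Matrix.mul_fin_two]
  ext i j
  fin_cases i <;> fin_cases j <;> simp [pow_two]
  field_simp

theorem ph11_dg_ne {l : Fˣ} (h : (l : F) ^ 2 ≠ 1) : ph11 F (dg l) ≠ 1 := by
  intro h1
  apply h
  have h2 := congrArg (ph11 F) (dg_up l 1)
  rw [map_mul, map_mul, h1, one_mul, mul_one] at h2
  have h3 := up11_injective h2
  rw [mul_one] at h3
  exact h3.symm

end Cfsg.Agent.H337.GTwoMat
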