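import Mathlib

/-!
# Centralisers of elements of order 3 in `SL₂`, `SL₃`
-/

set_option autoImplicit false

namespace Cfsg.Agent.H337.MatCent

open Matrix

/-- the commutant of a nonscalar `2 × 2` matrix is commutative -/
theorem comm_two {F : Type*} [Field F] {A B C : Matrix (Fin 2) (Fin 2) F}
    (hA : ¬ ∃ c : F, A = c • 1) (hB : A * B = B * A) (hC : A * C = C * A) : B * C = C * B := by
  have b00 := congrFun (congrFun hB 0) 0
  have b01 := congrFun (congrFun hB 0) 1
  have b10 := congrFun (congrFun hB 1) 0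
  have c00 := congrFun (congrFun hC 0) 0
  have c01 := congrFun (congrFun hC 0) 1
  have c10 := congrFun (congrFun hC 1) 0
  simp only [Matrix.mul_apply, Fin.sum_univ_two] at b00 b01 b10 c00 c01 c10
  obtain ⟨a, ha⟩ : ∃ a, a = A 0 0 := ⟨_, rfl⟩
  obtain ⟨b, hb⟩ : ∃ b, b = A 0 1 := ⟨_, rfl⟩
  obtain ⟨c, hc⟩ : ∃ c, c = A 1 0 := ⟨_, rfl⟩
  obtain ⟨d, hd⟩ : ∃ d, d = A 1 1 := ⟨_, rfl⟩
  rw [← ha, ← hb, ← hc] at b00 c00
  rw [← ha, ← hb, ← hd] at b01 c01
  rw [← ha, ← hc, ← hd] at b10 c10
  -- the three cross products vanish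
  have key : B 0 1 * C 1 0 = C 0 1 * B 1 0 ∧ B 0 1 * (C 0 0 - C 1 1) = C 0 1 * (B 0 0 - B 1 1) ∧
      B 1 0 * (C 0 0 - C 1 1) = C 1 0 * (B 0 0 - B 1 1) := by
    by_cases h1 : b = 0
    · by_cases h2 : c = 0
      · have h3 : a - d ≠ 0 := by
          intro h3
          apply hA
          refine ⟨a, ?_⟩
          ext i j
          fin_cases i <;> fin_cases j
          · simp [← ha]
          · simp [← hb, h1]
          · simp [← hc, h2]
          · simp only [Fin.mk_one, Fin.isValue, ← hd, Matrix.smul_apply, one_apply_eq, smul_eq_mul, mul_one]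
            linear_combination -h3
        have e1 : B 0 1 = 0 := by
          apply mul_left_cancel₀ h3
          linear_combination b01 + h1 * (B 0 0 - B 1 1)
        have e2 : B 1 0 = 0 := by
          apply mul_left_cancel₀ h3
          linear_combination -b10 + h2 * (B 0 0 - B 1 1)
        have e3 : C 0 1 = 0 := by
          apply mul_left_cancel₀ h3
          linear_combination c01 + h1 * (C 0 0 - C 1 1)
        have e4 : C 1 0 = 0 := by
          apply mul_left_cancel₀ h3
          linear_combination -c10 + h2 * (C 0 0 - C 1 1)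
        rw [e1, e2, e3, e4]
        simp
      · refine ⟨?_, ?_, ?_⟩
        · apply mul_left_cancel₀ h2
          linear_combination (-1 : F) * b00 * C 1 0 + c00 * B 1 0
        · apply mul_left_cancel₀ h2
          linear_combination (-1 : F) * b00 * (C 0 0 - C 1 1) + c00 * (B 0 0 - B 1 1) + b * 0 + h1 * 0
            + (B 1 0 * (C 0 0 - C 1 1) - C 1 0 * (B 0 0 - B 1 1)) * h1
        · apply mul_left_cancel₀ h2
          linear_combination B 1 0 * (c10) - C 1 0 * b10
    · have k2 : B 0 1 * (C 0 0 - C 1 1) = C 0 1 * (B 0 0 - B 1 1) := by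
        apply mul_left_cancel₀ h1
        linear_combination (-1 : F) * B 0 1 * c01 + C 0 1 * b01
      refine ⟨?_, k2, ?_⟩
      · apply mul_left_cancel₀ h1
        linear_combination B 0 1 * c00 - C 0 1 * b00
      · apply mul_left_cancel₀ h1
        linear_combination b00 * (C 0 0 - C 1 1) - c00 * (B 0 0 - B 1 1) + c * k2
  obtain ⟨k1, k2, k3⟩ := key
  ext i j
  fin_cases i <;> fin_cases j <;> simp only [Matrix.mul_apply, Fin.sum_univ_two, Fin.zero_eta, Fin.mk_one,
    Fin.isValue]
  · linear_combination k1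
  · linear_combination -k2
  · linear_combination k3
  · linear_combination -k1

/-- the commutant of a matrix with distinct eigenvalues is commutative -/
theorem comm_of_eigen {n : Type*} [Fintype n] [DecidableEq n] {K : Type*} [Field K] {A B C : Matrix n n K}
    {l : n → K} (hl : Function.Injective l) {v : n → n → K} (hv : ∀ i, v i ≠ 0) (hA : ∀ i, A *ᵥ v i = l i • v i)
    (hB : A * B = B * A) (hC : A * C = C * A) : B * C = C * B := by
  have hli : LinearIndependent K v := by
    apply Module.End.eigenvectors_linearIndependent' (Matrix.toLin' A) l hl v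
    intro i
    refine ⟨Module.End.mem_eigenspace_iff.2 ?_, hv i⟩
    rw [Matrix.toLin'_apply, hA]
  set P : Matrix n n K := Matrix.of fun i j => v j i with hP
  have hu : IsUnit P := by
    rw [← Matrix.linearIndependent_cols_iff_isUnit]
    exact hli
  have hPd := (Matrix.isUnit_iff_isUnit_det P).1 hu
  have hAP : A * P = P * Matrix.diagonal l := by
    ext i j
    rw [Matrix.mul_diagonal, Matrix.mul_apply]
    have := congrFun (hA j) i
    rw [Matrix.mulVec, dotProduct] at this
    simp only [hP, Matrix.of_apply]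
    rw [this, Pi.smul_apply, smul_eq_mul, mul_comm]
  have key : ∀ X : Matrix n n K, A * X = X * A → ∃ d : n → K, X = P * Matrix.diagonal d * P⁻¹ := by
    intro X hX
    have h1 : Matrix.diagonal l * (P⁻¹ * X * P) = (P⁻¹ * X * P) * Matrix.diagonal l := by
      have h2 : Matrix.diagonal l = P⁻¹ * A * P := by
        rw [Matrix.mul_assoc, hAP, ← Matrix.mul_assoc, Matrix.nonsing_inv_mul _ hPd, Matrix.one_mul]
      rw [h2]
      calc P⁻¹ * A * P * (P⁻¹ * X * P) = P⁻¹ * A * (P * P⁻¹) * X * P := by
            simp only [Matrix.mul_assoc]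
        _ = P⁻¹ * (A * X) * P := by
            rw [Matrix.mul_nonsing_inv _ hPd]; simp only [Matrix.mul_assoc, Matrix.one_mul]
        _ = P⁻¹ * (X * A) * P := by rw [hX]
        _ = P⁻¹ * X * (P * P⁻¹) * A * P := by
            rw [Matrix.mul_nonsing_inv _ hPd]; simp only [Matrix.mul_assoc, Matrix.one_mul]
        _ = P⁻¹ * X * P * (P⁻¹ * A * P) := by simp only [Matrix.mul_assoc]
    refine ⟨fun i => (P⁻¹ * X * P) i i, ?_⟩
    have h3 : P⁻¹ * X * P = Matrix.diagonal fun i => (P⁻¹ * X * P) i i := by
      ext i j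
      by_cases hij : i = j
      · subst hij; rw [Matrix.diagonal_apply_eq]
      · rw [Matrix.diagonal_apply_ne _ hij]
        have h4 := congrFun (congrFun h1 i) j
        rw [Matrix.diagonal_mul, Matrix.mul_diagonal, mul_comm] at h4
        have h5 : (P⁻¹ * X * P) i j * (l i - l j) = 0 := by rw [mul_sub, h4, sub_self]
        rcases mul_eq_zero.1 h5 with h6 | h6
        · exact h6
        · exact absurd (hl (sub_eq_zero.1 h6)) hij
    rw [← h3]
    calc X = (P * P⁻¹) * X * (P * P⁻¹) := by
          rw [Matrix.mul_nonsing_inv _ hPd, Matrix.one_mul, Matrix.mul_one]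
      _ = P * (P⁻¹ * X * P) * P⁻¹ := by simp only [Matrix.mul_assoc]
  obtain ⟨d, hd⟩ := key B hB
  obtain ⟨e, he⟩ := key C hC
  have h7 : ∀ f g : n → K, P * Matrix.diagonal f * P⁻¹ * (P * Matrix.diagonal g * P⁻¹) =
      P * (Matrix.diagonal f * Matrix.diagonal g) * P⁻¹ := by
    intro f g
    calc _ = P * Matrix.diagonal f * (P⁻¹ * P) * Matrix.diagonal g * P⁻¹ := by simp only [Matrix.mul_assoc]
      _ = _ := by rw [Matrix.nonsing_inv_mul _ hPd, Matrix.mul_one]; simp only [Matrix.mul_assoc]
  rw [hd, he, h7, h7, Matrix.diagonal_mul_diagonal, Matrix.diagonal_mul_diagonal]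
  congr 3
  ext i
  rw [mul_comm]

open Polynomial in
theorem charpoly_three {F : Type*} [Field F] {A : Matrix (Fin 3) (Fin 3) F} (hd : A.det = 1) (h3 : A ^ 3 = 1)
    (hns : ¬ ∃ c : F, A = c • 1) : A.charpoly = X ^ 3 - 1 := by
  have hn : A.charpoly.natDegree = 3 := by rw [Matrix.charpoly_natDegree_eq_dim, Fintype.card_fin]
  have hm := A.charpoly_monic
  have h0 : A.charpoly.coeff 0 = -1 := by
    have := Matrix.det_eq_sign_charpoly_coeff A
    rw [hd, Fintype.card_fin] at this
    linear_combination this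
  have hl : A.charpoly.coeff 3 = 1 := by
    have := hm.coeff_natDegree
    rwa [hn] at this
  obtain ⟨a, ha⟩ : ∃ a, a = A.charpoly.coeff 2 := ⟨_, rfl⟩
  obtain ⟨b, hb⟩ : ∃ b, b = A.charpoly.coeff 1 := ⟨_, rfl⟩
  have hp : A.charpoly = C (-1) + C b * X + C a * X ^ 2 + X ^ 3 := by
    conv_lhs => rw [A.charpoly.as_sum_range_C_mul_X_pow, hn]
    rw [Finset.sum_range_succ, Finset.sum_range_succ, Finset.sum_range_succ, Finset.sum_range_succ,
      Finset.sum_range_zero, h0, hl, ← ha, ← hb, map_one]
    ring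
  have hc := Matrix.aeval_self_charpoly A
  rw [hp] at hc
  simp only [map_add, map_mul, aeval_C, aeval_X, map_pow] at hc
  rw [h3] at hc
  have h4 : b • A + a • A ^ 2 = 0 := by
    simp only [Algebra.algebraMap_eq_smul_one, Matrix.smul_mul, Matrix.one_mul, neg_smul, one_smul] at hc
    rw [← hc]; abel
  have h5 : b • (1 : Matrix (Fin 3) (Fin 3) F) + a • A = 0 := by
    have h6 : (b • A + a • A ^ 2) * A ^ 2 = 0 := by rw [h4, Matrix.zero_mul]
    rw [Matrix.add_mul, Matrix.smul_mul, Matrix.smul_mul, ← pow_succ', ← pow_add] at h6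
    rw [show A ^ (2 + 1) = 1 from h3, show A ^ (2 + 2) = A by rw [show 2 + 2 = 3 + 1 by norm_num, pow_succ, h3,
      Matrix.one_mul]] at h6
    exact h6
  have ha0 : a = 0 := by
    by_contra hne
    apply hns
    refine ⟨-(a⁻¹ * b), ?_⟩
    have h7 : a • A = -(b • (1 : Matrix (Fin 3) (Fin 3) F)) := by
      rw [eq_neg_iff_add_eq_zero, add_comm]; exact h5
    calc A = a⁻¹ • (a • A) := by rw [smul_smul, inv_mul_cancel₀ hne, one_smul]
      _ = -(a⁻¹ * b) • 1 := by rw [h7, smul_neg, smul_smul, neg_smul]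
  have hb0 : b = 0 := by
    rw [ha0, zero_smul, add_zero] at h5
    have := congrFun (congrFun h5 0) 0
    simpa using this
  rw [hp, ha0, hb0]
  simp only [map_neg, map_one, map_zero, zero_mul, add_zero]
  ring

/-- the commutant of a nonscalar `3 × 3` matrix of determinant 1 and order 3 is commutative -/
theorem comm_three {F : Type*} [Field F] (h3F : (3 : F) ≠ 0) {A B C : Matrix (Fin 3) (Fin 3) F} (hd : A.det = 1)
    (h3 : A ^ 3 = 1) (hns : ¬ ∃ c : F, A = c • 1) (hB : A * B = B * A) (hC : A * C = C * A) : B * C = C * B := by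
  let K := AlgebraicClosure F
  let f : F →+* K := algebraMap F K
  have hf : Function.Injective f := f.injective
  have h3K : (3 : K) ≠ 0 := by
    intro h
    apply h3F
    apply hf
    rw [map_zero, ← h]
    exact map_ofNat f 3
  have hch : (A.map f).charpoly = Polynomial.X ^ 3 - 1 := by
    rw [Matrix.charpoly_map, charpoly_three hd h3 hns]
    simp
  obtain ⟨w, hw⟩ : ∃ w : K, w ^ 2 + w + 1 = 0 := by
    have hdeg : (Polynomial.X ^ 2 + Polynomial.X + 1 : Polynomial K).degree ≠ 0 := by
      have : (Polynomial.X ^ 2 + Polynomial.X + 1 : Polynomial K).degree = 2 := by compute_degree!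
      rw [this]; decide
    obtain ⟨w, hw⟩ := IsAlgClosed.exists_root _ hdeg
    refine ⟨w, ?_⟩
    simpa [Polynomial.IsRoot] using hw
  have hw3 : w ^ 3 = 1 := by linear_combination (w - 1) * hw
  have hw1 : w ≠ 1 := by
    intro h
    apply h3K
    rw [h] at hw
    linear_combination hw
  have hw0 : w ≠ 0 := by
    intro h
    rw [h] at hw
    simp at hw
  have hw2 : w ^ 2 ≠ 1 := by
    intro h
    apply h3K
    have h8 : w = -2 := by linear_combination hw - h
    rw [h8] at h
    linear_combination h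
  have hww : w ^ 2 ≠ w := by
    intro h
    apply hw1
    apply mul_left_cancel₀ hw0
    linear_combination h
  let l : Fin 3 → K := ![1, w, w ^ 2]
  have hl : Function.Injective l := by
    intro i j hij
    fin_cases i <;> fin_cases j <;> simp [l] at hij ⊢
    · exact hw1 hij.symm
    · exact hw2 hij.symm
    · exact hw1 hij
    · exact hww hij.symm
    · exact hw2 (by rcases hij with h | h <;> rw [h] <;> ring)
    · exact hww hij
  have hl3 : ∀ i, l i ^ 3 = 1 := by
    intro i
    fin_cases i
    · simp [l]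
    · simpa [l] using hw3
    · simp only [l]
      show (w ^ 2) ^ 3 = 1
      rw [← pow_mul, mul_comm, pow_mul, hw3, one_pow]
  have hev : ∀ i, ∃ v : Fin 3 → K, v ≠ 0 ∧ (A.map f) *ᵥ v = l i • v := by
    intro i
    have h1 : (Matrix.scalar (Fin 3) (l i) - A.map f).det = 0 := by
      rw [← Matrix.eval_charpoly, hch]
      simp [hl3]
    obtain ⟨v, hv0, hv⟩ := Matrix.exists_mulVec_eq_zero_iff.2 h1
    refine ⟨v, hv0, ?_⟩
    rw [Matrix.sub_mulVec, sub_eq_zero] at hv
    rw [← hv]
    ext j
    simp [Matrix.scalar_apply, Matrix.mulVec_diagonal]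
  choose v hv0 hv using hev
  have key := comm_of_eigen hl hv0 hv (B := B.map f) (C := C.map f)
    (by rw [← Matrix.map_mul, hB, Matrix.map_mul]) (by rw [← Matrix.map_mul, hC, Matrix.map_mul])
  rw [← Matrix.map_mul, ← Matrix.map_mul] at key
  exact Matrix.map_injective hf key

end Cfsg.Agent.H337.MatCent
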