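import Cfsg.Agent.S0279
import Cfsg.Agent.H337.MatCent

/-!
# Centralisers of elements of order 3 in `PSL₂(q)`, `PSL₃(q)` (`q ≡ 2 mod 3`), `PSU₃(q)` (`q ≡ 1 mod 3`)
are abelian.
-/

set_option autoImplicit false

namespace Cfsg.Agent.H337.LinElim

open Cfsg Cfsg.Agent.H337.MatCent

/-- abelian centralisers of elements of order 3 -/
def AbCent (S : Type*) [Group S] : Prop :=
  ∀ x : S, x ^ 3 = 1 → x ≠ 1 → ∀ g h : S, g * x = x * g → h * x = x * h → g * h = h * g

theorem abCent_congr {S T : Type*} [Group S] [Group T] (e : S ≃* T) (h : AbCent T) : AbCent S := by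
  intro x hx hx1 g k hg hk
  apply e.injective
  rw [map_mul, map_mul]
  apply h (e x) (by rw [← map_pow, hx, map_one]) (by rwa [Ne, map_eq_one_iff e e.injective])
  · rw [← map_mul, hg, map_mul]
  · rw [← map_mul, hk, map_mul]

/-- the abstract quotient argument -/
theorem abCent_quot {M : Type*} [Group M] (hZ : ∀ z ∈ Subgroup.center M, z ^ 2 = 1)
    (hM : ∀ a : M, a ^ 3 = 1 → a ∉ Subgroup.center M → ∀ b c : M, a * b = b * a → a * c = c * a → b * c = c * b) :
    AbCent (M ⧸ Subgroup.center M) := by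
  intro x hx hx1 g k hg hk
  obtain ⟨a, rfl⟩ := QuotientGroup.mk_surjective x
  obtain ⟨b, rfl⟩ := QuotientGroup.mk_surjective g
  obtain ⟨c, rfl⟩ := QuotientGroup.mk_surjective k
  have h3 : a ^ 3 ∈ Subgroup.center M := by
    rw [← QuotientGroup.eq_one_iff, QuotientGroup.mk_pow, hx]
  obtain ⟨z, hz⟩ : ∃ z, z = a ^ 3 := ⟨_, rfl⟩
  rw [← hz] at h3
  have hcz : ∀ y : M, y * z = z * y := fun y => (Subgroup.mem_center_iff.1 h3 y)
  have ha' : (a * z) ^ 3 = 1 := by
    have : Commute a z := hcz a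
    rw [this.mul_pow, ← hz, pow_succ, hZ z h3, one_mul]
    have := hZ z h3
    rwa [pow_two] at this
  have hnc : a * z ∉ Subgroup.center M := by
    intro h
    apply hx1
    rw [QuotientGroup.eq_one_iff]
    have := mul_mem h (inv_mem h3)
    rwa [mul_inv_cancel_right] at this
  have key : ∀ y : M, (y : M ⧸ Subgroup.center M) * (a : M ⧸ Subgroup.center M) =
      (a : M ⧸ Subgroup.center M) * (y : M ⧸ Subgroup.center M) → (a * z) * y = y * (a * z) := by
    intro y hy
    have h4 : (y * a)⁻¹ * (a * y) ∈ Subgroup.center M := by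
      rw [← QuotientGroup.eq_one_iff]
      rw [QuotientGroup.mk_mul, QuotientGroup.mk_inv, QuotientGroup.mk_mul, QuotientGroup.mk_mul, hy, inv_mul_cancel]
    obtain ⟨w, hw⟩ : ∃ w, w = (y * a)⁻¹ * (a * y) := ⟨_, rfl⟩
    rw [← hw] at h4
    have hcw : ∀ y : M, y * w = w * y := fun y => (Subgroup.mem_center_iff.1 h4 y)
    have h5 : a * y = y * a * w := by rw [hw]; group
    -- `y⁻¹ (a z) y = a z w`
    have h6 : y⁻¹ * (a * z) * y = a * z * w := by
      calc y⁻¹ * (a * z) * y = y⁻¹ * (a * (z * y)) := by group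
        _ = y⁻¹ * (a * (y * z)) := by rw [hcz]
        _ = y⁻¹ * (a * y) * z := by group
        _ = a * w * z := by rw [h5]; group
        _ = a * z * w := by rw [mul_assoc, hcz, ← mul_assoc]
    have h7 : (a * z * w) ^ 3 = 1 := by
      rw [← h6]
      have : y⁻¹ * (a * z) * y = y⁻¹ * (a * z) * y⁻¹⁻¹ := by rw [inv_inv]
      rw [this, conj_pow, ha']; group
    have h8 : w = 1 := by
      have : Commute (a * z) w := hcw (a * z)
      rw [this.mul_pow, ha', one_mul, pow_succ, hZ w h4, one_mul] at h7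
      exact h7
    rw [h8, mul_one] at h6
    calc a * z * y = y * (y⁻¹ * (a * z) * y) := by group
      _ = y * (a * z) := by rw [h6]
  have h9 := hM (a * z) ha' hnc b c (key b hg) (key c hk)
  rw [← QuotientGroup.mk_mul, h9, QuotientGroup.mk_mul]

theorem scalar_mem_center {n : ℕ} {F : Type*} [Field F] {a : Matrix.SpecialLinearGroup (Fin n) F} {c : F}
    (h : (a : Matrix (Fin n) (Fin n) F) = c • 1) : a ∈ Subgroup.center (Matrix.SpecialLinearGroup (Fin n) F) := by
  rw [Subgroup.mem_center_iff]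
  intro g
  apply Subtype.ext
  simp [h]

theorem coe_comm {n : ℕ} {F : Type*} [Field F] {a b : Matrix.SpecialLinearGroup (Fin n) F} :
    a * b = b * a ↔ (a : Matrix (Fin n) (Fin n) F) * b = b * a := by
  rw [← Matrix.SpecialLinearGroup.coe_mul, ← Matrix.SpecialLinearGroup.coe_mul]
  exact ⟨fun h => congrArg _ h, fun h => Subtype.ext h⟩

theorem psl_two {F : Type*} [Field F] : AbCent (Matrix.ProjectiveSpecialLinearGroup (Fin 2) F) := by
  apply abCent_quot
  · intro z hz
    obtain ⟨r, hr, h⟩ := Matrix.SpecialLinearGroup.mem_center_iff.1 hz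
    apply Subtype.ext
    rw [Matrix.SpecialLinearGroup.coe_pow, ← h, ← map_pow]
    rw [Fintype.card_fin] at hr
    rw [hr, map_one]; rfl
  · intro a _ hns b c hb hc
    rw [coe_comm] at hb hc ⊢
    exact comm_two (fun ⟨c, hc⟩ => hns (scalar_mem_center hc)) hb hc

theorem three_ne {F : Type*} [Field F] [Fintype F] (h : Fintype.card F % 3 ≠ 0) : (3 : F) ≠ 0 := by
  intro h3
  apply h
  obtain ⟨p, hch⟩ := CharP.exists F
  obtain ⟨n, hp, hc⟩ := FiniteField.card F p
  have h4 : p ∣ 3 := by
    rw [← CharP.cast_eq_zero_iff F p 3]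
    exact_mod_cast h3
  have h5 : p = 3 := (Nat.prime_dvd_prime_iff_eq hp Nat.prime_three).1 h4
  rw [hc, h5]
  exact Nat.mod_eq_zero_of_dvd (dvd_pow_self 3 n.2.ne')

theorem psl_three {F : Type*} [Field F] [Fintype F] (hF : Fintype.card F % 3 = 2) :
    AbCent (Matrix.ProjectiveSpecialLinearGroup (Fin 3) F) := by
  apply abCent_quot
  · intro z hz
    obtain ⟨r, hr, h⟩ := Matrix.SpecialLinearGroup.mem_center_iff.1 hz
    rw [Fintype.card_fin] at hr
    have hr0 : r ≠ 0 := by
      rintro rfl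
      simp at hr
    have h1 : r ^ (Fintype.card F - 1) = 1 := FiniteField.pow_card_sub_one_eq_one r hr0
    have hr1 : r = 1 := by
      have h2 := orderOf_dvd_of_pow_eq_one hr
      have h3 := orderOf_dvd_of_pow_eq_one h1
      have h4 : Nat.Coprime 3 (Fintype.card F - 1) := by
        rw [Nat.Prime.coprime_iff_not_dvd Nat.prime_three]
        omega
      exact orderOf_eq_one_iff.1 (Nat.eq_one_of_dvd_coprimes h4 h2 h3)
    apply Subtype.ext
    rw [Matrix.SpecialLinearGroup.coe_pow, ← h, hr1, map_one, one_pow]; rfl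
  · intro a h3 hns b c hb hc
    rw [coe_comm] at hb hc ⊢
    refine comm_three (three_ne (by omega)) a.2 ?_ (fun ⟨c, hc⟩ => hns (scalar_mem_center hc)) hb hc
    rw [← Matrix.SpecialLinearGroup.coe_pow, h3]; rfl

theorem psu_three {F : Type*} [Field F] [Fintype F] {q : ℕ} (hF : Fintype.card F = q ^ 2) (hq : q % 3 = 1) :
    AbCent (PSU 3 F q) := by
  have hc1 := S0279.result hF 3 le_rfl
  have hg : Nat.gcd 3 (q + 1) = 1 := (Nat.Prime.coprime_iff_not_dvd Nat.prime_three).2 (by omega)
  rw [hg] at hc1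
  have hbot : Subgroup.center (SU 3 F q) = ⊥ := Subgroup.card_eq_one.1 hc1
  apply abCent_quot
  · intro z hz
    rw [hbot, Subgroup.mem_bot] at hz
    rw [hz, one_pow]
  · intro a h3 hns b c hb hc
    have h9 : Fintype.card F % 3 ≠ 0 := by
      rw [hF, Nat.pow_mod, hq]; norm_num
    have hb' : (a : Matrix.SpecialLinearGroup (Fin 3) F) * b = b * a := by
      exact_mod_cast congrArg Subtype.val hb
    have hc' : (a : Matrix.SpecialLinearGroup (Fin 3) F) * c = c * a := by
      exact_mod_cast congrArg Subtype.val hc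
    apply Subtype.ext
    show (b : Matrix.SpecialLinearGroup (Fin 3) F) * c = c * b
    rw [coe_comm] at hb' hc' ⊢
    refine comm_three (three_ne h9) a.1.2 ?_ ?_ hb' hc'
    · rw [← Matrix.SpecialLinearGroup.coe_pow]
      have : (a : Matrix.SpecialLinearGroup (Fin 3) F) ^ 3 = 1 := by
        exact_mod_cast congrArg Subtype.val h3
      rw [this]; rfl
    · rintro ⟨d, hd⟩
      apply hns
      rw [Subgroup.mem_center_iff]
      intro g
      apply Subtype.ext
      exact Subgroup.mem_center_iff.1 (scalar_mem_center hd) g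

end Cfsg.Agent.H337.LinElim
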