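import Cfsg.Agent.SporadicA.OctadFix
import Cfsg.Agent.S0363
import Cfsg.Agent.J4Type.OuterM22

/-!
# `M24` has no element of order 33
-/

set_option autoImplicit false

namespace Cfsg.Agent.H337.MTwentyFour

open Cfsg Cfsg.Agent.SporadicA.GolayBase Cfsg.Agent.SporadicA.GolayPerm Cfsg.Agent.SporadicA.OctadFix
open Cfsg.Agent.J4Type.OuterM22
open scoped Pointwise

theorem eq_one_of_fix {w : Equiv.Perm GolayPt} (hM : w ∈ M24) (hw : w ^ 11 = 1)
    (h5 : 5 ≤ (Finset.univ.filter fun x => w x = x).card) : w = 1 := by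
  classical
  obtain ⟨A, hF, hA⟩ := Finset.exists_subset_card_eq h5
  have hSt : IsSteinerSystem 5 8 octads := S0363.result
  obtain ⟨o, ⟨ho, hAo⟩, hu⟩ := hSt.2 A hA
  have hgA : ∀ x ∈ A, w x = x := fun x hx => (Finset.mem_filter.1 (hF hx)).2
  have hgo : w • o = o := by
    apply hu
    refine ⟨(smul_mem_octads hM).2 ho, fun x hx => ?_⟩
    rw [← hgA x hx]
    exact (mem_smul_iff w o x).2 (hAo hx)
  have hinv : ∀ x ∈ o, w x ∈ o := fun x hx => by
    have := (mem_smul_iff w o x).2 hx
    rwa [hgo] at this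
  have h8 : o.card = 8 := octad_card ho
  have p11 : Fact (Nat.Prime 11) := ⟨by norm_num⟩
  have hmod := card_fixed_modEq (p := 11) hw hinv
  have hle : (o.filter (fun x => w x = x)).card ≤ 8 := h8 ▸ Finset.card_le_card (Finset.filter_subset _ _)
  have hcard : (o.filter (fun x => w x = x)).card = 8 := by
    rw [h8] at hmod
    unfold Nat.ModEq at hmod
    omega
  have hfo : w ∈ fixOct o := mem_fixOct.2 ⟨hM, fun x hx => by
    have h9 : o.filter (fun x => w x = x) = o :=
      Finset.eq_of_subset_of_card_le (Finset.filter_subset _ _) (by rw [hcard, h8])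
    rw [← h9] at hx
    exact (Finset.mem_filter.1 hx).2⟩
  have h2 := fixOct_sq ho hfo
  calc w = w ^ 11 * (w * w)⁻¹ ^ 5 := by rw [← pow_two]; group
    _ = 1 := by rw [hw, h2]; simp

/-- **No element of order 33.** -/
theorem no33 {x w : Equiv.Perm GolayPt} (hwM : w ∈ M24) (hx : x ^ 3 = 1) (hw : w ^ 11 = 1)
    (hw1 : w ≠ 1) (hc : x * w = w * x) : x = 1 := by
  classical
  have hcx : ∀ p, x (w p) = w (x p) := fun p => by
    have := congrArg (fun f : Equiv.Perm GolayPt => f p) hc
    simpa using this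
  have p11 : Fact (Nat.Prime 11) := ⟨by norm_num⟩
  have p3 : Fact (Nat.Prime 3) := ⟨by norm_num⟩
  have hc24 : (Finset.univ : Finset GolayPt).card = 24 := by
    rw [Finset.card_univ]; rfl
  obtain ⟨A, hA⟩ : ∃ A, A = Finset.univ.filter fun p => x p = p := ⟨_, rfl⟩
  obtain ⟨B, hB⟩ : ∃ B, B = Finset.univ.filter fun p => w p = p := ⟨_, rfl⟩
  have mA : ∀ p, p ∈ A ↔ x p = p := fun p => by rw [hA]; simp
  have mB : ∀ p, p ∈ B ↔ w p = p := fun p => by rw [hB]; simp
  have h1 := card_fixed_modEq (p := 11) hw (Y := Finset.univ) (fun x _ => Finset.mem_univ _)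
  rw [← hB, hc24] at h1
  have h2 := card_fixed_modEq (p := 3) hx (Y := Finset.univ) (fun x _ => Finset.mem_univ _)
  rw [← hA, hc24] at h2
  have h3 := card_fixed_modEq (p := 11) hw (Y := A) (fun p hp => by
    rw [mA] at hp ⊢
    rw [hcx, hp])
  have h4 := card_fixed_modEq (p := 3) hx (Y := B) (fun p hp => by
    rw [mB] at hp ⊢
    rw [← hcx, hp])
  have h5 : A.filter (fun p => w p = p) = B.filter (fun p => x p = p) := by
    ext p
    rw [Finset.mem_filter, Finset.mem_filter, mA, mB, and_comm]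
  have h6 : B.card < 5 := by
    by_contra hcon
    exact hw1 (eq_one_of_fix hwM hw (by rw [← hB]; omega))
  have h7 : (B.filter (fun p => x p = p)).card ≤ B.card := Finset.card_le_card (Finset.filter_subset _ _)
  have h8 : A.card ≤ 24 := hc24 ▸ Finset.card_le_card (Finset.subset_univ A)
  rw [h5] at h3
  unfold Nat.ModEq at h1 h2 h3 h4
  have h9 : A.card = 24 := by omega
  have h10 : A = Finset.univ := Finset.eq_univ_of_card _ (by rw [h9, ← hc24, Finset.card_univ])
  apply Equiv.ext
  intro p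
  exact (mA p).1 (h10 ▸ Finset.mem_univ p)

/-- the abstract version -/
theorem elim {S : Type*} [Group S] (h : Spor.IsoM24 S) {x w : S} (hx : x ^ 3 = 1) (hw : w ^ 11 = 1)
    (hw1 : w ≠ 1) (hc : x * w = w * x) : x = 1 := by
  obtain ⟨e⟩ := h
  have key : ((e x : M24) : Equiv.Perm GolayPt) = 1 := by
    apply no33 (e w).2 (x := (e x : M24)) (w := (e w : M24))
    · rw [← Subgroup.coe_pow, ← map_pow, hx, map_one]; rfl
    · rw [← Subgroup.coe_pow, ← map_pow, hw, map_one]; rfl
    · intro h
      apply hw1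
      apply e.injective
      rw [map_one]
      exact Subtype.ext h
    · rw [← Subgroup.coe_mul, ← map_mul, hc, map_mul]; rfl
  apply e.injective
  rw [map_one]
  exact Subtype.ext key

end Cfsg.Agent.H337.MTwentyFour
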