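import Mathlib

/-!
# Numerical lemmas for the elimination of the known simple groups by `27 ∥ |S|`
-/

set_option autoImplicit false

namespace Cfsg.Agent.H337.OrdElim

theorem nd_mul {u v : ℕ} (hu : ¬ 3 ∣ u) (hv : ¬ 3 ∣ v) : ¬ 3 ∣ u * v := Nat.prime_three.not_dvd_mul hu hv

theorem nd_pow {u k : ℕ} (hu : ¬ 3 ∣ u) : ¬ 3 ∣ u ^ k := fun h => hu (Nat.prime_three.dvd_of_dvd_pow h)

theorem cop {c : ℕ} (k : ℕ) (h : ¬ 3 ∣ c) : Nat.Coprime (3 ^ k) c :=
  Nat.Coprime.pow_left k ((Nat.Prime.coprime_iff_not_dvd Nat.prime_three).2 h)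

/-- cancel a factor prime to 3 -/
theorem cancel {c N : ℕ} (k : ℕ) (hc : ¬ 3 ∣ c) (h : 3 ^ k ∣ c * N) : 3 ^ k ∣ N :=
  (cop k hc).dvd_of_dvd_mul_left h

theorem sq81 {a : ℕ} (h : 3 ^ 3 ∣ a * a) : 3 ^ 4 ∣ a * a := by
  have h3 : 3 ∣ a := by
    have h1 : 3 ∣ a * a := (dvd_pow_self 3 (by norm_num)).trans h
    rcases (Nat.prime_three.dvd_mul).1 h1 with h | h <;> exact h
  obtain ⟨b, rfl⟩ := h3
  have h4 : 3 ∣ b * b := by
    obtain ⟨w, hw⟩ := h
    refine ⟨w, ?_⟩
    have : 9 * (b * b) = 9 * (3 * w) := by linarith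
    exact Nat.eq_of_mul_eq_mul_left (by norm_num) this
  have h5 : 3 ∣ b := by rcases (Nat.prime_three.dvd_mul).1 h4 with h | h <;> exact h
  obtain ⟨d, rfl⟩ := h5
  exact ⟨d * d, by ring⟩

/-- the exponent of 3 is even: `27 ∣ N` implies `81 ∣ N` -/
theorem even81 {c N u a : ℕ} (hc : ¬ 3 ∣ c) (hu : ¬ 3 ∣ u) (h : c * N = u * (a * a)) (h27 : 3 ^ 3 ∣ N) :
    3 ^ 4 ∣ N := by
  apply cancel 4 hc
  rw [h]
  apply Dvd.dvd.mul_left
  apply sq81
  apply cancel 3 hu
  rw [← h]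
  exact Dvd.dvd.mul_left h27 _

section

variable {q : ℕ}

theorem pow_mod_three_one (h : q % 3 = 1) (k : ℕ) : q ^ k % 3 = 1 := by
  rw [Nat.pow_mod, h, one_pow]
  norm_num

theorem sub_dvd {k m : ℕ} (h : q ^ k % m = 1 % m) (hq : 0 < q) : m ∣ q ^ k - 1 :=
  (Nat.modEq_iff_dvd' (Nat.one_le_pow _ _ hq)).1 (Eq.symm h)

theorem six_mod (h : q % 3 ≠ 0) : q ^ 6 % 9 = 1 := by
  rw [Nat.pow_mod]
  have h1 : q % 9 < 9 := Nat.mod_lt _ (by norm_num)
  have h2 : q % 9 % 3 ≠ 0 := by omega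
  interval_cases h : q % 9 <;> simp_all

theorem sq_mod (h : q % 3 ≠ 0) : q ^ 2 % 3 = 1 := by
  rw [Nat.pow_mod]
  have h1 : q % 3 < 3 := Nat.mod_lt _ (by norm_num)
  interval_cases h : q % 3 <;> simp_all

theorem even_mod (h : q % 3 ≠ 0) (k : ℕ) : q ^ (2 * k) % 3 = 1 := by
  rw [pow_mul]; exact pow_mod_three_one (sq_mod h) k

theorem even_dvd (h : q % 3 ≠ 0) (k : ℕ) : 3 ∣ q ^ (2 * k) - 1 :=
  sub_dvd (even_mod h k) (by omega)

theorem six_dvd (h : q % 3 ≠ 0) (k : ℕ) : 9 ∣ q ^ (6 * k) - 1 := by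
  apply sub_dvd _ (by omega)
  rw [pow_mul, Nat.pow_mod, six_mod h, one_pow]

theorem cube_mod_one (h : q % 3 = 1) : 9 ∣ q ^ 3 - 1 := by
  apply sub_dvd _ (by omega)
  rw [Nat.pow_mod]
  have h1 : q % 9 < 9 := Nat.mod_lt _ (by norm_num)
  have h2 : q % 9 % 3 = 1 := by omega
  interval_cases h : q % 9 <;> simp_all

theorem one_dvd' (h : q % 3 = 1) (k : ℕ) : 3 ∣ q ^ k - 1 := sub_dvd (pow_mod_three_one h k) (by omega)

theorem cube_mod_two (h : q % 3 = 2) : 9 ∣ q ^ 3 + 1 := by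
  apply Nat.dvd_of_mod_eq_zero
  rw [Nat.add_mod, Nat.pow_mod]
  have h1 : q % 9 < 9 := Nat.mod_lt _ (by norm_num)
  have h2 : q % 9 % 3 = 2 := by omega
  interval_cases h : q % 9 <;> simp_all

theorem odd_mod_two (h : q % 3 = 2) (k : ℕ) : q ^ (2 * k + 1) % 3 = 2 := by
  rw [pow_succ, Nat.mul_mod, even_mod (by omega), h]

theorem two_dvd' (h : q % 3 = 2) (k : ℕ) : 3 ∣ q ^ (2 * k + 1) + 1 := by
  have := odd_mod_two h k
  omega

/-- `(q²-1)(q⁴-1)(q⁶-1)` -/
theorem prod3 (h : q % 3 ≠ 0) : 3 ^ 4 ∣ (q ^ 2 - 1) * (q ^ 4 - 1) * (q ^ 6 - 1) := by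
  have h1 := even_dvd h 1
  have h2 := even_dvd h 2
  have h3 := six_dvd h 1
  exact mul_dvd_mul (mul_dvd_mul (a := 3) (c := 3) h1 h2) (c := 9) h3

theorem e2 (hq : 0 < q) : q ^ 2 - 1 = (q - 1) * (q + 1) := by
  obtain ⟨k, rfl⟩ : ∃ k, q = k + 1 := ⟨q - 1, by omega⟩
  rw [Nat.add_sub_cancel]
  exact Nat.sub_eq_of_eq_add (by ring)

theorem e3 (hq : 0 < q) : q ^ 3 - 1 = (q - 1) * (q ^ 2 + q + 1) := by
  obtain ⟨k, rfl⟩ : ∃ k, q = k + 1 := ⟨q - 1, by omega⟩
  rw [Nat.add_sub_cancel]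
  exact Nat.sub_eq_of_eq_add (by ring)

theorem e4 (hq : 0 < q) : q ^ 4 - 1 = (q ^ 2 - 1) * (q ^ 2 + 1) := by
  have h := e2 (q := q ^ 2) (pow_pos hq 2)
  rw [← h, ← pow_mul]

theorem e3' (hq : 0 < q) : q ^ 3 + 1 = (q + 1) * (q ^ 2 - q + 1) := by
  obtain ⟨k, rfl⟩ : ∃ k, q = k + 1 := ⟨q - 1, by omega⟩
  have : (k + 1) ^ 2 - (k + 1) = (k + 1) * k := Nat.sub_eq_of_eq_add (by ring)
  rw [this]; ring

/-- a prime power divisible by 3 is 3 or divisible by 9 -/
theorem three_or_nine (hq : IsPrimePow q) (h : q % 3 = 0) : q = 3 ∨ 9 ∣ q := by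
  obtain ⟨p, k, hp, hk, rfl⟩ := hq
  have h3 : 3 ∣ p := Nat.prime_three.dvd_of_dvd_pow (Nat.dvd_of_mod_eq_zero h)
  have hp3 : 3 = p := (Nat.prime_dvd_prime_iff_eq Nat.prime_three hp.nat_prime).1 h3
  subst hp3
  rcases Nat.lt_or_ge k 2 with h1 | h1
  · left
    have : k = 1 := by omega
    rw [this, pow_one]
  · right
    exact pow_dvd_pow 3 h1

end

/-! ### symplectic and orthogonal groups -/

theorem sp_big {q c N e m : ℕ} (hc : ¬ 3 ∣ c) (he : 4 ≤ e) (hm : 3 ≤ m) {r : ℕ}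
    (h : c * N = q ^ e * r * ∏ i ∈ Finset.range m, (q ^ (2 * (i + 1)) - 1)) : 3 ^ 4 ∣ N := by
  apply cancel 4 hc
  rw [h]
  by_cases h0 : q % 3 = 0
  · apply Dvd.dvd.mul_right
    apply Dvd.dvd.mul_right
    exact (pow_dvd_pow_of_dvd (Nat.dvd_of_mod_eq_zero h0) 4).trans (pow_dvd_pow q he)
  · apply Dvd.dvd.mul_left
    have h1 : ∏ i ∈ Finset.range 3, (q ^ (2 * (i + 1)) - 1) ∣ ∏ i ∈ Finset.range m, (q ^ (2 * (i + 1)) - 1) :=
      Finset.prod_dvd_prod_of_subset _ _ _ (Finset.range_subset_range.2 hm)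
    refine Dvd.dvd.trans ?_ h1
    rw [Finset.prod_range_succ, Finset.prod_range_succ, Finset.prod_range_succ, Finset.prod_range_zero, one_mul]
    exact prod3 h0

theorem sp_four {q c N : ℕ} (hq : 0 < q) (hc : ¬ 3 ∣ c)
    (h : c * N = q ^ 4 * ((q ^ 2 - 1) * (q ^ 4 - 1))) (h27 : 3 ^ 3 ∣ N) : 3 ^ 4 ∣ N := by
  by_cases h0 : q % 3 = 0
  · apply cancel 4 hc
    rw [h]
    apply Dvd.dvd.mul_right
    exact pow_dvd_pow_of_dvd (Nat.dvd_of_mod_eq_zero h0) 4
  · apply even81 hc (u := q ^ 4 * (q ^ 2 + 1)) (a := q ^ 2 - 1) _ _ h27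
    · apply nd_mul (nd_pow (by omega))
      have := sq_mod h0
      omega
    · rw [h, e4 hq]; ring

/-! ### linear groups -/

theorem fac {q n i : ℕ} (hi : i ≤ n) : q ^ n - q ^ (n - i) = q ^ (n - i) * (q ^ i - 1) := by
  obtain ⟨j, rfl⟩ : ∃ j, n = j + i := ⟨n - i, by omega⟩
  rw [Nat.add_sub_cancel, pow_add, Nat.mul_sub, mul_one]

/-- the factors `q ^ i - 1` of the order of the linear group -/
theorem dvd_gl {q n : ℕ} (k : ℕ) (hk : k ≤ n) :
    ∏ i ∈ Finset.range k, (q ^ (i + 1) - 1) ∣ ∏ i ∈ Finset.range n, (q ^ n - q ^ i) := by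
  rw [← Finset.prod_range_reflect (fun i => q ^ n - q ^ i)]
  refine Dvd.dvd.trans ?_ (Finset.prod_dvd_prod_of_subset (Finset.range k) _ _ (Finset.range_subset_range.2 hk))
  apply Finset.prod_dvd_prod_of_dvd
  intro i hi
  rw [Finset.mem_range] at hi
  have h1 : n - 1 - i = n - (i + 1) := by omega
  rw [h1, fac (by omega)]
  exact Dvd.intro_left _ rfl

theorem gcd_dvd_sq {n a N P : ℕ} (h : Nat.gcd n a * (a * N) = P) : P ∣ a * a * N := by
  obtain ⟨d, hd⟩ := Nat.gcd_dvd_right n a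
  refine ⟨d, ?_⟩
  rw [← h]
  conv_lhs => lhs; lhs; rw [hd]
  ring

theorem nd_gcd {n a : ℕ} (h : ¬ 3 ∣ a) : ¬ 3 ∣ Nat.gcd n a := fun h1 => h (h1.trans (Nat.gcd_dvd_right _ _))

theorem nd_gcd' {n a : ℕ} (h : ¬ 3 ∣ n) : ¬ 3 ∣ Nat.gcd n a := fun h1 => h (h1.trans (Nat.gcd_dvd_left _ _))

theorem psl_big {q n N : ℕ} (hq : 2 ≤ q) (hn : 4 ≤ n)
    (h : Nat.gcd n (q - 1) * ((q - 1) * N) = ∏ i ∈ Finset.range n, (q ^ n - q ^ i)) (h27 : 3 ^ 3 ∣ N) :
    3 ^ 4 ∣ N := by
  by_cases h0 : q % 3 = 0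
  · -- characteristic 3
    have h1 : q ^ 6 ∣ ∏ i ∈ Finset.range n, (q ^ n - q ^ i) := by
      refine Dvd.dvd.trans ?_ (Finset.prod_dvd_prod_of_subset (Finset.range 4) _ _
        (Finset.range_subset_range.2 hn))
      rw [Finset.prod_range_succ, Finset.prod_range_succ, Finset.prod_range_succ, Finset.prod_range_succ,
        Finset.prod_range_zero, one_mul]
      have h2 : ∀ i < 4, q ^ i ∣ q ^ n - q ^ i := fun i hi =>
        Nat.dvd_sub (pow_dvd_pow q (by omega)) dvd_rfl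
      have := mul_dvd_mul (mul_dvd_mul (mul_dvd_mul (h2 0 (by norm_num)) (h2 1 (by norm_num)))
        (h2 2 (by norm_num))) (h2 3 (by norm_num))
      rw [← pow_add, ← pow_add, ← pow_add] at this
      exact this
    have h3 : ¬ 3 ∣ q - 1 := by omega
    apply cancel 4 (nd_mul (nd_gcd (n := n) h3) h3)
    rw [mul_assoc, h]
    refine Dvd.dvd.trans ?_ h1
    exact (pow_dvd_pow 3 (by norm_num)).trans (pow_dvd_pow_of_dvd (Nat.dvd_of_mod_eq_zero h0) 6)
  · by_cases h1 : q % 3 = 1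
    · rcases Nat.lt_or_ge n 5 with h5 | h5
      · have h4 : n = 4 := by omega
        subst h4
        have h6 := dvd_gl (q := q) (n := 4) 4 le_rfl
        rw [← h] at h6
        rw [Finset.prod_range_succ, Finset.prod_range_succ, Finset.prod_range_succ, Finset.prod_range_succ,
          Finset.prod_range_zero, one_mul] at h6
        have h7 : (q - 1) * ((q ^ 2 - 1) * (q ^ 3 - 1) * (q ^ 4 - 1)) ∣ (q - 1) * (Nat.gcd 4 (q - 1) * N) := by
          have e : (q - 1) * ((q ^ 2 - 1) * (q ^ 3 - 1) * (q ^ 4 - 1)) =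
            (q ^ (0 + 1) - 1) * (q ^ (1 + 1) - 1) * (q ^ (2 + 1) - 1) * (q ^ (3 + 1) - 1) := by
            rw [show q ^ (0 + 1) = q by rw [zero_add, pow_one]]
            ring
          rw [e]
          refine h6.trans (dvd_of_eq (by ring))
        have h8 := Nat.dvd_of_mul_dvd_mul_left (by omega) h7
        apply cancel 4 (nd_gcd' (a := q - 1) (by norm_num : ¬ 3 ∣ 4))
        refine Dvd.dvd.trans ?_ h8
        exact mul_dvd_mul (mul_dvd_mul (a := 3) (c := 9) (one_dvd' h1 2) (cube_mod_one h1)) (c := 3) (one_dvd' h1 4)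
      · have h6 := (dvd_gl (q := q) (n := n) 5 h5).trans (gcd_dvd_sq h)
        rw [Finset.prod_range_succ, Finset.prod_range_succ, Finset.prod_range_succ, Finset.prod_range_succ,
          Finset.prod_range_succ, Finset.prod_range_zero, one_mul] at h6
        have h7 : (q - 1) * (q - 1) * ((q + 1) * (q ^ 3 - 1) * (q ^ 4 - 1) * (q ^ 5 - 1)) ∣
            (q - 1) * (q - 1) * N := by
          have e : (q - 1) * (q - 1) * ((q + 1) * (q ^ 3 - 1) * (q ^ 4 - 1) * (q ^ 5 - 1)) =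
            (q ^ (0 + 1) - 1) * (q ^ (1 + 1) - 1) * (q ^ (2 + 1) - 1) * (q ^ (3 + 1) - 1) * (q ^ (4 + 1) - 1) := by
            rw [show q ^ (0 + 1) = q by rw [zero_add, pow_one], show q ^ (1 + 1) - 1 = (q - 1) * (q + 1) from
              e2 (by omega)]
            ring
          rw [e]
          exact h6
        have h8 := Nat.dvd_of_mul_dvd_mul_left (Nat.mul_pos (by omega) (by omega)) h7
        refine Dvd.dvd.trans ?_ h8
        refine Dvd.dvd.trans ?_ (mul_dvd_mul (mul_dvd_mul (a := 9) (c := 3) (Dvd.dvd.mul_left (cube_mod_one h1) (q + 1))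
          (one_dvd' h1 4)) (c := 3) (one_dvd' h1 5))
        norm_num
    · have h2 : q % 3 = 2 := by omega
      have h3 : ¬ 3 ∣ q - 1 := by omega
      have h4 : ¬ 3 ∣ Nat.gcd n (q - 1) * (q - 1) := nd_mul (nd_gcd h3) h3
      rcases Nat.lt_or_ge n 6 with h5 | h5
      · have h6 : Nat.gcd n (q - 1) * (q - 1) * N = (q ^ (n * (n - 1) / 2) * (q ^ 2 + 1) * (q - 1) * (q ^ 3 - 1) *
            (if n = 5 then (q ^ 5 - 1) else 1)) * ((q ^ 2 - 1) * (q ^ 2 - 1)) := by
          rw [mul_assoc, h]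
          have hn' : n = 4 ∨ n = 5 := by omega
          rcases hn' with rfl | rfl
          · rw [if_neg (by norm_num), mul_one]
            rw [Finset.prod_range_succ, Finset.prod_range_succ, Finset.prod_range_succ, Finset.prod_range_succ,
              Finset.prod_range_zero, one_mul]
            have f1 := fac (q := q) (n := 4) (i := 4) (by norm_num)
            have f2 := fac (q := q) (n := 4) (i := 3) (by norm_num)
            have f3 := fac (q := q) (n := 4) (i := 2) (by norm_num)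
            have f4 := fac (q := q) (n := 4) (i := 1) (by norm_num)
            norm_num at f1 f2 f3 f4 ⊢
            rw [f2, f3, f4, e4 (by omega)]
            ring
          · rw [if_pos rfl]
            rw [Finset.prod_range_succ, Finset.prod_range_succ, Finset.prod_range_succ, Finset.prod_range_succ,
              Finset.prod_range_succ, Finset.prod_range_zero, one_mul]
            have f1 := fac (q := q) (n := 5) (i := 5) (by norm_num)
            have f2 := fac (q := q) (n := 5) (i := 4) (by norm_num)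
            have f3 := fac (q := q) (n := 5) (i := 3) (by norm_num)
            have f4 := fac (q := q) (n := 5) (i := 2) (by norm_num)
            have f5 := fac (q := q) (n := 5) (i := 1) (by norm_num)
            norm_num at f1 f2 f3 f4 f5 ⊢
            rw [f2, f3, f4, f5, e4 (by omega)]
            ring
        apply even81 h4 _ h6 h27
        have g2 := sq_mod h0
        have g3 : q ^ 3 % 3 = 2 := odd_mod_two h2 1
        have g5 : q ^ 5 % 3 = 2 := odd_mod_two h2 2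
        refine nd_mul (nd_mul (nd_mul (nd_mul (nd_pow (by omega)) (by omega)) h3) (by omega)) ?_
        split_ifs
        · omega
        · omega
      · apply cancel 4 h4
        rw [mul_assoc, h]
        refine Dvd.dvd.trans ?_ (dvd_gl (q := q) (n := n) 6 h5)
        rw [Finset.prod_range_succ, Finset.prod_range_succ, Finset.prod_range_succ, Finset.prod_range_succ,
          Finset.prod_range_succ, Finset.prod_range_succ, Finset.prod_range_zero, one_mul]
        refine (prod3 h0).trans ⟨(q ^ (0 + 1) - 1) * (q ^ (2 + 1) - 1) * (q ^ (4 + 1) - 1), ?_⟩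
        ring

/-- `PSL₃(q)` -/
theorem psl_three {q N : ℕ} (hp : IsPrimePow q)
    (h : Nat.gcd 3 (q - 1) * ((q - 1) * N) = ∏ i ∈ Finset.range 3, (q ^ 3 - q ^ i)) (h27 : 3 ^ 3 ∣ N)
    (h81 : ¬ 3 ^ 4 ∣ N) (h7 : 7 ∣ N) : q % 3 = 2 := by
  have hq : 2 ≤ q := hp.two_le
  by_contra hcon
  rw [Finset.prod_range_succ, Finset.prod_range_succ, Finset.prod_range_succ,
    Finset.prod_range_zero, one_mul] at h
  have f2 := fac (q := q) (n := 3) (i := 2) (by norm_num)
  have f3 := fac (q := q) (n := 3) (i := 1) (by norm_num)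
  norm_num at f2 f3 h
  rw [f2, f3] at h
  by_cases h0 : q % 3 = 0
  · rcases three_or_nine hp h0 with h1 | h1
    · subst h1
      norm_num at h
      omega
    · apply h81
      have h3 : ¬ 3 ∣ q - 1 := by omega
      apply cancel 4 (nd_mul (nd_gcd (n := 3) h3) h3)
      rw [mul_assoc, h]
      have h4 : 3 ^ 4 ∣ q ^ 2 * (q - 1) := by
        apply Dvd.dvd.mul_right
        exact (dvd_of_eq (by norm_num)).trans (pow_dvd_pow_of_dvd h1 2)
      exact Dvd.dvd.mul_left h4 _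
  · have h1 : q % 3 = 1 := by omega
    apply h81
    obtain ⟨k, hk⟩ : ∃ k, q = 3 * k + 1 := ⟨q / 3, by omega⟩
    have hg : Nat.gcd 3 (q - 1) = 3 := by
      have : q - 1 = 3 * k := by omega
      rw [this, Nat.gcd_mul_right_right]
    rw [hg, e3 (by omega), e2 (by omega)] at h
    have hw : q ^ 2 + q + 1 = 3 * (3 * k ^ 2 + 3 * k + 1) := by rw [hk]; ring
    rw [hw] at h
    have h5 : N * (3 * (q - 1)) = q ^ 3 * (3 * k ^ 2 + 3 * k + 1) * (q + 1) * ((q - 1) * (q - 1)) * (3 * (q - 1)) := by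
      linarith
    have h6 := Nat.eq_of_mul_eq_mul_right (by omega : 0 < 3 * (q - 1)) h5
    apply even81 (c := 1) (by norm_num) (u := q ^ 3 * (3 * k ^ 2 + 3 * k + 1) * (q + 1)) (a := q - 1) _ _ h27
    · refine nd_mul (nd_mul (nd_pow (by omega)) ?_) (by omega)
      rintro ⟨w, hw⟩
      omega
    · rw [one_mul]; exact h6

/-! ### unitary groups -/

/-- the factors of the order of the unitary group -/
def uf (q i : ℕ) : ℕ := if Even i then q ^ (i + 1) + 1 else q ^ (i + 1) - 1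

theorem uf0 (q : ℕ) : uf q 0 = q + 1 := by unfold uf; rw [if_pos (by decide), zero_add, pow_one]
theorem uf1 (q : ℕ) : uf q 1 = q ^ 2 - 1 := by unfold uf; rw [if_neg (by decide)]
theorem uf2 (q : ℕ) : uf q 2 = q ^ 3 + 1 := by unfold uf; rw [if_pos (by decide)]
theorem uf3 (q : ℕ) : uf q 3 = q ^ 4 - 1 := by unfold uf; rw [if_neg (by decide)]
theorem uf4 (q : ℕ) : uf q 4 = q ^ 5 + 1 := by unfold uf; rw [if_pos (by decide)]
theorem uf5 (q : ℕ) : uf q 5 = q ^ 6 - 1 := by unfold uf; rw [if_neg (by decide)]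

theorem psu_big {q n N : ℕ} (hq : 2 ≤ q) (hn : 4 ≤ n)
    (h : Nat.gcd n (q + 1) * ((q + 1) * N) = q ^ (n * (n - 1) / 2) * ∏ i ∈ Finset.range n, uf q i)
    (h27 : 3 ^ 3 ∣ N) : 3 ^ 4 ∣ N := by
  have hsub : ∀ k ≤ n, ∏ i ∈ Finset.range k, uf q i ∣ Nat.gcd n (q + 1) * ((q + 1) * N) := by
    intro k hk
    rw [h]
    exact Dvd.dvd.mul_left (Finset.prod_dvd_prod_of_subset _ _ _ (Finset.range_subset_range.2 hk)) _
  by_cases h0 : q % 3 = 0
  · have h3 : ¬ 3 ∣ q + 1 := by omega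
    apply cancel 4 (nd_mul (nd_gcd (n := n) h3) h3)
    rw [mul_assoc, h]
    apply Dvd.dvd.mul_right
    have h4 : 4 ≤ n * (n - 1) / 2 := by
      have : 4 * 3 ≤ n * (n - 1) := Nat.mul_le_mul hn (by omega)
      omega
    exact (pow_dvd_pow_of_dvd (Nat.dvd_of_mod_eq_zero h0) 4).trans (pow_dvd_pow q h4)
  · by_cases h1 : q % 3 = 2
    · rcases Nat.lt_or_ge n 5 with h5 | h5
      · have h4 : n = 4 := by omega
        subst h4
        have h6 := hsub 4 le_rfl
        rw [Finset.prod_range_succ, Finset.prod_range_succ, Finset.prod_range_succ, Finset.prod_range_succ,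
          Finset.prod_range_zero, one_mul, uf0, uf1, uf2, uf3] at h6
        have h7 : (q + 1) * ((q ^ 2 - 1) * (q ^ 3 + 1) * (q ^ 4 - 1)) ∣ (q + 1) * (Nat.gcd 4 (q + 1) * N) := by
          have e : (q + 1) * ((q ^ 2 - 1) * (q ^ 3 + 1) * (q ^ 4 - 1)) =
            (q + 1) * (q ^ 2 - 1) * (q ^ 3 + 1) * (q ^ 4 - 1) := by ring
          rw [e]
          refine h6.trans (dvd_of_eq (by ring))
        have h8 := Nat.dvd_of_mul_dvd_mul_left (by omega) h7
        apply cancel 4 (nd_gcd' (a := q + 1) (by norm_num : ¬ 3 ∣ 4))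
        refine Dvd.dvd.trans ?_ h8
        exact mul_dvd_mul (mul_dvd_mul (a := 3) (c := 9) (even_dvd h0 1) (cube_mod_two h1)) (c := 3) (even_dvd h0 2)
      · have h6 := (hsub 5 h5).trans (gcd_dvd_sq rfl)
        rw [Finset.prod_range_succ, Finset.prod_range_succ, Finset.prod_range_succ, Finset.prod_range_succ,
          Finset.prod_range_succ, Finset.prod_range_zero, one_mul, uf0, uf1, uf2, uf3, uf4, e2 (by omega)] at h6
        have h7 : (q + 1) * (q + 1) * ((q - 1) * (q ^ 3 + 1) * (q ^ 4 - 1) * (q ^ 5 + 1)) ∣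
            (q + 1) * (q + 1) * N := by
          refine Dvd.dvd.trans (dvd_of_eq (by ring)) h6
        have h8 := Nat.dvd_of_mul_dvd_mul_left (Nat.mul_pos (by omega) (by omega)) h7
        refine Dvd.dvd.trans ?_ h8
        refine Dvd.dvd.trans ?_ (mul_dvd_mul (mul_dvd_mul (a := 9) (c := 3) (Dvd.dvd.mul_left (cube_mod_two h1) (q - 1))
          (even_dvd h0 2)) (c := 3) (two_dvd' h1 2))
        norm_num
    · have h2 : q % 3 = 1 := by omega
      have h3 : ¬ 3 ∣ q + 1 := by omega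
      have h4 : ¬ 3 ∣ Nat.gcd n (q + 1) * (q + 1) := nd_mul (nd_gcd h3) h3
      rcases Nat.lt_or_ge n 6 with h5 | h5
      · have h6 : Nat.gcd n (q + 1) * (q + 1) * N = (q ^ (n * (n - 1) / 2) * (q ^ 2 + 1) * (q + 1) * (q ^ 3 + 1) *
            (if n = 5 then (q ^ 5 + 1) else 1)) * ((q ^ 2 - 1) * (q ^ 2 - 1)) := by
          rw [mul_assoc, h]
          have hn' : n = 4 ∨ n = 5 := by omega
          rcases hn' with rfl | rfl
          · rw [if_neg (by norm_num), mul_one]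
            rw [Finset.prod_range_succ, Finset.prod_range_succ, Finset.prod_range_succ, Finset.prod_range_succ,
              Finset.prod_range_zero, one_mul, uf0, uf1, uf2, uf3, e4 (by omega)]
            ring
          · rw [if_pos rfl]
            rw [Finset.prod_range_succ, Finset.prod_range_succ, Finset.prod_range_succ, Finset.prod_range_succ,
              Finset.prod_range_succ, Finset.prod_range_zero, one_mul, uf0, uf1, uf2, uf3, uf4, e4 (by omega)]
            ring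
        apply even81 h4 _ h6 h27
        have g2 := sq_mod h0
        have g3 := pow_mod_three_one h2 3
        have g5 := pow_mod_three_one h2 5
        refine nd_mul (nd_mul (nd_mul (nd_mul (nd_pow (by omega)) (by omega)) h3) (by omega)) ?_
        split_ifs
        · omega
        · omega
      · apply cancel 4 h4
        rw [mul_assoc]
        refine Dvd.dvd.trans ?_ (hsub 6 h5)
        rw [Finset.prod_range_succ, Finset.prod_range_succ, Finset.prod_range_succ, Finset.prod_range_succ,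
          Finset.prod_range_succ, Finset.prod_range_succ, Finset.prod_range_zero, one_mul, uf1, uf3, uf5]
        refine (prod3 h0).trans ⟨uf q 0 * uf q 2 * uf q 4, ?_⟩
        ring

/-- `PSU₃(q)` -/
theorem psu_three {q N : ℕ} (hp : IsPrimePow q)
    (h : Nat.gcd 3 (q + 1) * ((q + 1) * N) = q ^ (3 * (3 - 1) / 2) * ∏ i ∈ Finset.range 3, uf q i) (h27 : 3 ^ 3 ∣ N)
    (h81 : ¬ 3 ^ 4 ∣ N) (h11 : 11 ∣ N) : q % 3 = 1 := by
  have hq : 2 ≤ q := hp.two_le
  by_contra hcon
  rw [Finset.prod_range_succ, Finset.prod_range_succ, Finset.prod_range_succ,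
    Finset.prod_range_zero, one_mul, uf0, uf1, uf2, show 3 * (3 - 1) / 2 = 3 by norm_num] at h
  by_cases h0 : q % 3 = 0
  · rcases three_or_nine hp h0 with h1 | h1
    · subst h1
      norm_num at h
      omega
    · apply h81
      have h3 : ¬ 3 ∣ q + 1 := by omega
      apply cancel 4 (nd_mul (nd_gcd (n := 3) h3) h3)
      rw [mul_assoc, h]
      apply Dvd.dvd.mul_right
      exact ((dvd_of_eq (by norm_num)).trans (pow_dvd_pow_of_dvd h1 2)).trans (pow_dvd_pow q (by norm_num : 2 ≤ 3))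
  · have h1 : q % 3 = 2 := by omega
    apply h81
    obtain ⟨k, hk⟩ : ∃ k, q = 3 * k + 2 := ⟨q / 3, by omega⟩
    have hg : Nat.gcd 3 (q + 1) = 3 := by
      have : q + 1 = 3 * (k + 1) := by omega
      rw [this, Nat.gcd_mul_right_right]
    rw [hg, e3' (by omega), e2 (by omega)] at h
    have hw : q ^ 2 - q + 1 = 3 * (3 * k ^ 2 + 3 * k + 1) := by
      have : q ^ 2 = q + (9 * k ^ 2 + 9 * k + 2) := by rw [hk]; ring
      rw [this, Nat.add_sub_cancel_left]; ring
    rw [hw] at h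
    have h5 : N * (3 * (q + 1)) = q ^ 3 * (3 * k ^ 2 + 3 * k + 1) * (q - 1) * ((q + 1) * (q + 1)) * (3 * (q + 1)) := by
      linarith
    have h6 := Nat.eq_of_mul_eq_mul_right (by omega : 0 < 3 * (q + 1)) h5
    apply even81 (c := 1) (by norm_num) (u := q ^ 3 * (3 * k ^ 2 + 3 * k + 1) * (q - 1)) (a := q + 1) _ _ h27
    · refine nd_mul (nd_mul (nd_pow (by omega)) ?_) (by omega)
      rintro ⟨w, hw⟩
      omega
    · rw [one_mul]; exact h6

end Cfsg.Agent.H337.OrdElim
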