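import Cfsg.Agent.OrdDiv.Main
import Cfsg.Agent.H337.OrdElimNum

/-!
# The known simple groups with `27 ∥ |S|` and `7 · 11 ∣ |S|`
-/

set_option autoImplicit false

namespace Cfsg.Agent.H337.OrdElim

open Cfsg Cfsg.Agent.OrdDiv

universe u

/-- the possible groups -/
def Left (S : Type u) [Group S] : Prop :=
  (∃ (F : Type) (_ : Field F) (_ : Fintype F),
      Nonempty (S ≃* Matrix.ProjectiveSpecialLinearGroup (Fin 2) F)) ∨
  (∃ (F : Type) (_ : Field F) (_ : Fintype F), Fintype.card F % 3 = 2 ∧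
      Nonempty (S ≃* Matrix.ProjectiveSpecialLinearGroup (Fin 3) F)) ∨
  (∃ (F : Type) (_ : Field F) (_ : Fintype F) (q : ℕ), Fintype.card F = q ^ 2 ∧ q % 3 = 1 ∧
      Nonempty (S ≃* PSU 3 F q)) ∨
  (∃ (F : Type) (_ : Field F) (_ : Fintype F), 3 ≤ Fintype.card F ∧ Fintype.card F % 3 ≠ 0 ∧
      Nonempty (S ≃* ↥(Lie.chevG2.group F))) ∨
  Spor.IsoM24 S ∨ Spor.IsoJ4 S

theorem spor_dec : ∀ x ∈ spor, 3 ^ 3 ∣ x.2 → ¬ 3 ^ 4 ∣ x.2 → 7 ∣ x.2 → 11 ∣ x.2 → x.1 = .m24 ∨ x.1 = .j4 := by
  decide +kernel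

theorem tf4_num {m : ℕ} {N : ℕ} (h : N = (2 ^ (2 * m + 1)) ^ 12 * (2 ^ (2 * m + 1) - 1) *
      ((2 ^ (2 * m + 1)) ^ 3 + 1) * ((2 ^ (2 * m + 1)) ^ 4 - 1) * ((2 ^ (2 * m + 1)) ^ 6 + 1)) (h7 : 7 ∣ N) :
    3 ^ 4 ∣ N := by
  -- `q mod 63`
  have hper : ∀ k : ℕ, 2 ^ (6 * k) % 63 = 1 := by
    intro k
    rw [pow_mul, Nat.pow_mod]
    norm_num
  have key : ∀ r < 6, 2 ^ (6 * (m / 3) + r) % 63 = 2 ^ r % 63 := by
    intro r _
    rw [pow_add, Nat.mul_mod, hper]
    norm_num
  obtain ⟨q, hq⟩ : ∃ q, q = 2 ^ (2 * m + 1) := ⟨_, rfl⟩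
  have hm : 2 * m + 1 = 6 * (m / 3) + (2 * (m % 3) + 1) := by omega
  have hq63 : q % 63 = 2 ^ (2 * (m % 3) + 1) % 63 := by
    rw [hq, hm]; exact key _ (by omega)
  rw [← hq] at h
  have hr : m % 3 < 3 := Nat.mod_lt _ (by norm_num)
  have hpos : 0 < q := by rw [hq]; positivity
  -- `7 ∣ N` forces `q ≡ 8 mod 63`
  have h8 : q % 63 = 8 := by
    interval_cases h3 : m % 3
    · exfalso
      have h2 : q % 7 = 2 := by omega
      have e1 : q ^ 12 % 7 = 1 := by rw [Nat.pow_mod, h2]
      have e3 : q ^ 3 % 7 = 1 := by rw [Nat.pow_mod, h2]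
      have e4 : q ^ 4 % 7 = 2 := by rw [Nat.pow_mod, h2]
      have e6 : q ^ 6 % 7 = 1 := by rw [Nat.pow_mod, h2]
      have p7 : Nat.Prime 7 := by norm_num
      rw [h] at h7
      rcases (p7.dvd_mul).1 h7 with h7 | h7
      · rcases (p7.dvd_mul).1 h7 with h7 | h7
        · rcases (p7.dvd_mul).1 h7 with h7 | h7
          · rcases (p7.dvd_mul).1 h7 with h7 | h7 <;> omega
          · omega
        · omega
      · omega
    · simpa using hq63
    · exfalso
      have h2 : q % 7 = 4 := by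
        have : q % 63 = 32 := by simpa using hq63
        omega
      have e1 : q ^ 12 % 7 = 1 := by rw [Nat.pow_mod, h2]
      have e3 : q ^ 3 % 7 = 1 := by rw [Nat.pow_mod, h2]
      have e4 : q ^ 4 % 7 = 4 := by rw [Nat.pow_mod, h2]
      have e6 : q ^ 6 % 7 = 1 := by rw [Nat.pow_mod, h2]
      have p7 : Nat.Prime 7 := by norm_num
      rw [h] at h7
      rcases (p7.dvd_mul).1 h7 with h7 | h7
      · rcases (p7.dvd_mul).1 h7 with h7 | h7
        · rcases (p7.dvd_mul).1 h7 with h7 | h7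
          · rcases (p7.dvd_mul).1 h7 with h7 | h7 <;> omega
          · omega
        · omega
      · omega
  have h9 : q % 9 = 8 := by omega
  have d1 : 9 ∣ q + 1 := by omega
  have d3 : 9 ∣ q ^ 3 + 1 := by
    rw [e3' hpos]; exact Dvd.dvd.mul_right d1 _
  have d4 : 9 ∣ q ^ 4 - 1 := by
    rw [e4 hpos, e2 hpos]
    exact Dvd.dvd.mul_right (Dvd.dvd.mul_left d1 _) _
  rw [h]
  apply Dvd.dvd.mul_right
  have := mul_dvd_mul (Dvd.dvd.mul_left d3 (q ^ 12 * (q - 1))) d4
  exact this

/-- **The elimination.** -/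
theorem elim (T : OrderTable.{u}) {S : Type u} [Group S] (h : IsKnownSimple' S)
    (hna : ¬ ∀ a b : S, a * b = b * a) (h27 : 3 ^ 3 ∣ Nat.card S) (h81 : ¬ 3 ^ 4 ∣ Nat.card S)
    (h7 : 7 ∣ Nat.card S) (h11 : 11 ∣ Nat.card S) : Left S := by
  have key : ∀ (g : Grp), g ∈ spor.map (fun x => x.1) → Real g S → g = .m24 ∨ g = .j4 := fun g hg hr => by
    obtain ⟨x, hx, rfl⟩ := List.mem_map.1 hg
    have hc := T.spor S x hx hr
    rw [hc] at h27 h81 h7 h11
    exact spor_dec x hx h27 h81 h7 h11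
  rcases h with h | h | h | h | h | h | h | h | h | h
  · exfalso
    have : Fact (Nat.card S).Prime := ⟨h⟩
    have : IsCyclic S := isCyclic_of_prime_card (p := Nat.card S) rfl
    exact hna fun a b => (IsCyclic.isMulCommutative (α := S)).is_comm.comm a b
  · exfalso
    obtain ⟨n, hn, ⟨e⟩⟩ := h
    have hc := alt_card hn e
    rcases Nat.lt_or_ge n 9 with h9 | h9
    · have h1 : n.factorial ∣ Nat.factorial 8 := Nat.factorial_dvd_factorial (by omega)
      have h2 : 3 ^ 3 ∣ Nat.factorial 8 := (h27.trans (Dvd.intro_left 2 hc.symm)).trans h1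
      revert h2
      decide
    · apply h81
      apply cancel 4 (c := 2) (by norm_num)
      rw [← hc]
      exact (by decide : 3 ^ 4 ∣ Nat.factorial 9).trans (Nat.factorial_dvd_factorial h9)
  · obtain ⟨F, _, _, n, hn, hn2, ⟨e⟩⟩ := h
    have hc := S0243.result (F := F) rfl n hn
    rw [Fin.prod_univ_eq_prod_range (fun i => Fintype.card F ^ n - Fintype.card F ^ i) n,
      ← Nat.card_congr e.toEquiv] at hc
    have hq : 1 < Fintype.card F := Fintype.one_lt_card
    rcases Nat.lt_or_ge n 4 with h4 | h4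
    · have : n = 2 ∨ n = 3 := by omega
      rcases this with rfl | rfl
      · exact Or.inl ⟨F, inferInstance, inferInstance, ⟨e⟩⟩
      · refine Or.inr (Or.inl ⟨F, inferInstance, inferInstance, ?_, ⟨e⟩⟩)
        exact psl_three Fintype.isPrimePow_card_of_field hc h27 h81 h7
    · exact absurd (psl_big (by omega) h4 hc h27) h81
  · exfalso
    obtain ⟨F, _, _, m, hm, hm2, ⟨e⟩⟩ := h
    have hq : 1 < Fintype.card F := Fintype.one_lt_card
    have hc : Nat.gcd 2 (Fintype.card F - 1) * Nat.card S = Fintype.card F ^ (m ^ 2) * 1 *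
        ∏ i ∈ Finset.range m, (Fintype.card F ^ (2 * (i + 1)) - 1) := by
      have h1 := S0245.result (F := F) rfl m
      have h2 := S0246.result (F := F) rfl m (by omega)
      have h3 := Subgroup.card_eq_card_quotient_mul_card_subgroup
        (Subgroup.center (Matrix.symplecticGroup (Fin m) F))
      rw [h1, h2] at h3
      rw [Nat.card_congr e.toEquiv, mul_one, mul_comm]
      exact h3.symm
    have h3 : ¬ 3 ∣ Nat.gcd 2 (Fintype.card F - 1) := nd_gcd' (by norm_num)
    rcases Nat.lt_or_ge m 3 with h4 | h4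
    · have h5 : m = 2 := by omega
      subst h5
      rw [Finset.prod_range_succ, Finset.prod_range_succ, Finset.prod_range_zero, one_mul, mul_one] at hc
      exact h81 (sp_four (by omega) h3 hc h27)
    · exact h81 (sp_big h3 (by nlinarith) h4 hc)
  · obtain ⟨F, _, _, n, q, hF, hn, hn2, ⟨e⟩⟩ := h
    have hq2 : IsPrimePow (q ^ 2) := hF ▸ Fintype.isPrimePow_card_of_field
    have hqp : IsPrimePow q := (isPrimePow_pow_iff (by norm_num)).1 hq2
    have hc := S0280.result hF n (by omega)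
    rw [← Nat.card_congr e.toEquiv] at hc
    rcases Nat.lt_or_ge n 4 with h4 | h4
    · have h5 : n = 3 := by omega
      subst h5
      refine Or.inr (Or.inr (Or.inl ⟨F, inferInstance, inferInstance, q, hF, ?_, ⟨e⟩⟩))
      exact psu_three hqp hc h27 h81 h11
    · exact absurd (psu_big hqp.two_le h4 hc h27) h81
  · exfalso
    obtain ⟨F, _, _, n, hn, ho, ⟨e⟩⟩ := h
    have hc := S0292.result (F := F) rfl ho n hn
    rw [← Nat.card_congr e.toEquiv, ← mul_one (Fintype.card F ^ (n ^ 2))] at hc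
    exact h81 (sp_big (by norm_num) (by nlinarith) hn hc)
  · exfalso
    obtain ⟨F, _, _, n, hn, ⟨e⟩⟩ := h
    have hc := S0293.result (F := F) rfl n hn
    rw [← Nat.card_congr e.toEquiv] at hc
    have h5 : 4 * 3 ≤ n * (n - 1) := Nat.mul_le_mul hn (by omega)
    exact h81 (sp_big (nd_gcd' (by norm_num)) (by omega) (by omega : 3 ≤ n - 1) hc)
  · exfalso
    obtain ⟨F, _, _, n, a, b, hn, hab, ⟨e⟩⟩ := h
    have hc := S0294.result (F := F) rfl n hn a b hab
    rw [← Nat.card_congr e.toEquiv] at hc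
    have h5 : 4 * 3 ≤ n * (n - 1) := Nat.mul_le_mul hn (by omega)
    exact h81 (sp_big (nd_gcd' (by norm_num)) (by omega) (by omega : 3 ≤ n - 1) hc)
  · rcases h with h | h | h | h | h | h | h | h | h | h | h
    · obtain ⟨F, _, _, hq, ⟨e⟩⟩ := h
      refine Or.inr (Or.inr (Or.inr (Or.inl ⟨F, inferInstance, inferInstance, hq, ?_, ⟨e⟩⟩)))
      intro h0
      apply h81
      rw [Nat.card_congr e.toEquiv, T.g2 F]
      apply Dvd.dvd.mul_right
      apply Dvd.dvd.mul_right
      exact (pow_dvd_pow_of_dvd (Nat.dvd_of_mod_eq_zero h0) 4).trans (pow_dvd_pow _ (by norm_num))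
    · exfalso
      obtain ⟨F, _, _, ⟨e⟩⟩ := h
      apply h81
      rw [Nat.card_congr e.toEquiv, T.f4 F _ rfl]
      by_cases h0 : Fintype.card F % 3 = 0
      · iterate 4 apply Dvd.dvd.mul_right
        exact (pow_dvd_pow_of_dvd (Nat.dvd_of_mod_eq_zero h0) 4).trans (pow_dvd_pow _ (by norm_num))
      · have := mul_dvd_mul (mul_dvd_mul (mul_dvd_mul (Dvd.dvd.mul_left (even_dvd h0 1) (Fintype.card F ^ 24)) (six_dvd h0 1))
          (even_dvd h0 4)) (six_dvd h0 2)
        exact (by norm_num : 3 ^ 4 ∣ 3 * 9 * 3 * 9).trans this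
    · exfalso
      obtain ⟨F, _, _, ⟨e⟩⟩ := h
      apply h81
      have hc := T.e6 F _ rfl
      rw [← Nat.card_congr e.toEquiv] at hc
      have hq : 1 < Fintype.card F := Fintype.one_lt_card
      by_cases h0 : Fintype.card F % 3 = 0
      · apply cancel 4 (c := Nat.gcd 3 (Fintype.card F - 1)) (nd_gcd (by omega))
        rw [hc]
        iterate 6 apply Dvd.dvd.mul_right
        exact (pow_dvd_pow_of_dvd (Nat.dvd_of_mod_eq_zero h0) 4).trans (pow_dvd_pow _ (by norm_num))
      · have h1 : 3 * 3 ^ 4 ∣ 3 * Nat.card S := by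
          have h2 : Nat.gcd 3 (Fintype.card F - 1) * Nat.card S ∣ 3 * Nat.card S :=
            mul_dvd_mul_right (Nat.gcd_dvd_left _ _) _
          refine Dvd.dvd.trans ?_ h2
          rw [hc]
          have := mul_dvd_mul (mul_dvd_mul (mul_dvd_mul (Dvd.dvd.mul_left (even_dvd h0 1) (Fintype.card F ^ 36))
            (six_dvd h0 1)) (even_dvd h0 4)) (six_dvd h0 2)
          refine ((by norm_num : 3 * 3 ^ 4 ∣ 3 * 9 * 3 * 9).trans this).trans
            ⟨(Fintype.card F ^ 5 - 1) * (Fintype.card F ^ 9 - 1), by ring⟩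
        exact Nat.dvd_of_mul_dvd_mul_left (by norm_num) h1
    · exfalso
      obtain ⟨F, _, _, ⟨e⟩⟩ := h
      apply h81
      have hc := T.e7 F _ rfl
      rw [← Nat.card_congr e.toEquiv] at hc
      apply cancel 4 (c := Nat.gcd 2 (Fintype.card F - 1)) (nd_gcd' (by norm_num))
      rw [hc]
      by_cases h0 : Fintype.card F % 3 = 0
      · iterate 7 apply Dvd.dvd.mul_right
        exact (pow_dvd_pow_of_dvd (Nat.dvd_of_mod_eq_zero h0) 4).trans (pow_dvd_pow _ (by norm_num))
      · have := mul_dvd_mul (mul_dvd_mul (mul_dvd_mul (Dvd.dvd.mul_left (even_dvd h0 1) (Fintype.card F ^ 63))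
            (six_dvd h0 1)) (even_dvd h0 4)) (even_dvd h0 5)
        exact (((by norm_num : 3 ^ 4 ∣ 3 * 9 * 3 * 3).trans this).trans
            ⟨(Fintype.card F ^ 12 - 1) * (Fintype.card F ^ 14 - 1) * (Fintype.card F ^ 18 - 1), by ring⟩)
    · exfalso
      obtain ⟨F, _, _, ⟨e⟩⟩ := h
      apply h81
      rw [Nat.card_congr e.toEquiv, T.e8 F _ rfl]
      by_cases h0 : Fintype.card F % 3 = 0
      · iterate 8 apply Dvd.dvd.mul_right
        exact (pow_dvd_pow_of_dvd (Nat.dvd_of_mod_eq_zero h0) 4).trans (pow_dvd_pow _ (by norm_num))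
      · have := mul_dvd_mul (mul_dvd_mul (Dvd.dvd.mul_left (even_dvd h0 1) (Fintype.card F ^ 120))
            (even_dvd h0 4)) (six_dvd h0 2)
        exact (((by norm_num : 3 ^ 4 ∣ 3 * 3 * 9).trans this).trans
            ⟨(Fintype.card F ^ 14 - 1) * (Fintype.card F ^ 18 - 1) * (Fintype.card F ^ 20 - 1) *
              (Fintype.card F ^ 24 - 1) * (Fintype.card F ^ 30 - 1), by ring⟩)
    · exfalso
      obtain ⟨F, _, _, q, hq, hF, ⟨e⟩⟩ := h
      apply h81
      have hc := T.te6 F q hq hF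
      rw [← Nat.card_congr e.toEquiv] at hc
      by_cases h0 : q % 3 = 0
      · apply cancel 4 (c := Nat.gcd 3 (q + 1)) (nd_gcd (by omega))
        rw [hc]
        iterate 6 apply Dvd.dvd.mul_right
        exact (pow_dvd_pow_of_dvd (Nat.dvd_of_mod_eq_zero h0) 4).trans (pow_dvd_pow _ (by norm_num))
      · have h1 : 3 * 3 ^ 4 ∣ 3 * Nat.card S := by
          have h2 : Nat.gcd 3 (q + 1) * Nat.card S ∣ 3 * Nat.card S :=
            mul_dvd_mul_right (Nat.gcd_dvd_left _ _) _
          refine Dvd.dvd.trans ?_ h2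
          rw [hc]
          have := mul_dvd_mul (mul_dvd_mul (mul_dvd_mul (Dvd.dvd.mul_left (even_dvd h0 1) (q ^ 36))
            (six_dvd h0 1)) (even_dvd h0 4)) (six_dvd h0 2)
          refine ((by norm_num : 3 * 3 ^ 4 ∣ 3 * 9 * 3 * 9).trans this).trans
            ⟨(q ^ 5 + 1) * (q ^ 9 + 1), by ring⟩
        exact Nat.dvd_of_mul_dvd_mul_left (by norm_num) h1
    · exfalso
      obtain ⟨F, _, _, q, hq, hF, ⟨e⟩⟩ := h
      apply h81
      rw [Nat.card_congr e.toEquiv, T.td4 F q hq hF]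
      by_cases h0 : q % 3 = 0
      · iterate 3 apply Dvd.dvd.mul_right
        exact (pow_dvd_pow_of_dvd (Nat.dvd_of_mod_eq_zero h0) 4).trans (pow_dvd_pow _ (by norm_num))
      · have h8 : 3 ∣ q ^ 8 + q ^ 4 + 1 := by
          have e8 := even_mod h0 4
          have e4 := even_mod h0 2
          norm_num at e8 e4
          omega
        have := mul_dvd_mul (mul_dvd_mul (Dvd.dvd.mul_left (even_dvd h0 1) (q ^ 12)) (six_dvd h0 1)) h8
        exact (by norm_num : 3 ^ 4 ∣ 3 * 9 * 3).trans this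
    · exfalso
      obtain ⟨F, _, _, m, hm, hF, ⟨e⟩⟩ := h
      rw [Nat.card_congr e.toEquiv, T.sz F m hm hF] at h27
      have hq : 2 ^ (2 * m + 1) % 3 = 2 := by
        rw [pow_succ, pow_mul, Nat.mul_mod, Nat.pow_mod]; norm_num
      have hq2 := sq_mod (q := 2 ^ (2 * m + 1)) (by omega)
      have h3 : ¬ 3 ∣ (2 ^ (2 * m + 1)) ^ 2 * (2 ^ (2 * m + 1) - 1) * ((2 ^ (2 * m + 1)) ^ 2 + 1) :=
        nd_mul (nd_mul (nd_pow (by omega)) (by omega)) (by omega)
      exact h3 ((dvd_pow_self 3 (by norm_num)).trans h27)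
    · exfalso
      obtain ⟨F, _, _, m, hm, hF, ⟨e⟩⟩ := h
      apply h81
      rw [Nat.card_congr e.toEquiv, T.ree F m hm hF]
      apply Dvd.dvd.mul_right
      apply Dvd.dvd.mul_right
      rw [← pow_mul]
      exact pow_dvd_pow 3 (by omega)
    · exfalso
      obtain ⟨F, _, _, m, hm, hF, ⟨e⟩⟩ := h
      exact h81 (tf4_num ((Nat.card_congr e.toEquiv).trans (T.tf4 F m hm hF)) h7)
    · rcases key .tits (by decide) h with h | h <;> cases h
  · rcases h with h | h | h | h | h | h | h | h | h | h | h | h | h | h | h | h | h | h | h | h | h | h | h | h | h | h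
    · rcases key .m11 (by decide) h with h | h <;> cases h
    · rcases key .m12 (by decide) h with h | h <;> cases h
    · rcases key .m22 (by decide) h with h | h <;> cases h
    · rcases key .m23 (by decide) h with h | h <;> cases h
    · exact Or.inr (Or.inr (Or.inr (Or.inr (Or.inl h))))
    · rcases key .j1 (by decide) h with h | h <;> cases h
    · rcases key .j2 (by decide) h with h | h <;> cases h
    · rcases key .j3 (by decide) h with h | h <;> cases h
    · exact Or.inr (Or.inr (Or.inr (Or.inr (Or.inr h))))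
    · rcases key .co1 (by decide) h with h | h <;> cases h
    · rcases key .co2 (by decide) h with h | h <;> cases h
    · rcases key .co3 (by decide) h with h | h <;> cases h
    · rcases key .mcl (by decide) h with h | h <;> cases h
    · rcases key .hs (by decide) h with h | h <;> cases h
    · rcases key .suz (by decide) h with h | h <;> cases h
    · rcases key .he (by decide) h with h | h <;> cases h
    · rcases key .ru (by decide) h with h | h <;> cases h
    · rcases key .on (by decide) h with h | h <;> cases h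
    · rcases key .ly (by decide) h with h | h <;> cases h
    · rcases key .fi22 (by decide) h with h | h <;> cases h
    · rcases key .fi23 (by decide) h with h | h <;> cases h
    · rcases key .fi24 (by decide) h with h | h <;> cases h
    · rcases key .hn (by decide) h with h | h <;> cases h
    · rcases key .th (by decide) h with h | h <;> cases h
    · rcases key .b (by decide) h with h | h <;> cases h
    · rcases key .m (by decide) h with h | h <;> cases h

end Cfsg.Agent.H337.OrdElim
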