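import Cfsg.Agent.H337.ThreeGroup
import Cfsg.Agent.H337.OrdElim
import Cfsg.Agent.H337.LinElim
import Cfsg.Agent.H337.GTwoElim
import Cfsg.Agent.H337.MTwentyFour

/-!
# The known simple groups with an element of order 3 whose centraliser is `3·M22` or `6·M22`, and one class of
elements of order 3
-/

set_option autoImplicit false

namespace Cfsg.Agent.H337.SimpleCase

open Cfsg Cfsg.Agent.OrdDiv Cfsg.Agent.H337.ThreeCent Cfsg.Agent.H337.ThreeGroup

universe u

section

variable {G : Type u} [Group G] [Finite G] {x : G}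

theorem card_dvd_of_ext (E : Ext (xC x)) : Nat.card (Subgroup.centralizer ({x} : Set G)) ∣ 2661120 := by
  rw [E.card_C]
  rcases E.card with h | h <;> rw [h] <;> norm_num

theorem cent_conj {a b : G} (h : IsConj a b) :
    Nat.card (Subgroup.centralizer ({a} : Set G)) = Nat.card (Subgroup.centralizer ({b} : Set G)) := by
  obtain ⟨c, hc⟩ := isConj_iff.1 h
  have := GTwoElim.card_cent (MulAut.conj c) a
  rw [this, MulAut.conj_apply, hc]

theorem dvd_of_ext (E : Ext (xC x)) {n : ℕ} (hn : n ∣ 443520) : n ∣ Nat.card G := by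
  have h1 : n ∣ Nat.card (Subgroup.centralizer ({x} : Set G)) := by
    rw [E.card_C]; exact Dvd.dvd.mul_right hn _
  exact h1.trans (Subgroup.card_subgroup_dvd_card _)

theorem factorization (E : Ext (xC x)) : (Nat.card G).factorization 3 = 3 := by
  have h3 : Fact (Nat.Prime 3) := ⟨Nat.prime_three⟩
  obtain ⟨T⟩ : Nonempty (Sylow 3 (Subgroup.centralizer ({x} : Set G))) := inferInstance
  obtain ⟨S, hS⟩ := exists_sylow E T
  have h1 : Nat.card (S : Subgroup G) = 27 := by
    rw [hS, T0, Nat.card_congr (Subgroup.equivMapOfInjective _ _ (Subgroup.subtype_injective _)).toEquiv.symm]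
    exact E.card_sylow T
  rw [S.card_eq_multiplicity, show 27 = 3 ^ 3 by norm_num] at h1
  exact Nat.pow_right_injective (le_refl 2 |>.trans (by norm_num)) h1

theorem dvd27 (E : Ext (xC x)) : 3 ^ 3 ∣ Nat.card G := by
  have h := Nat.ordProj_dvd (Nat.card G) 3
  rwa [factorization E] at h

theorem not81 (E : Ext (xC x)) : ¬ 3 ^ 4 ∣ Nat.card G := by
  intro h
  have := (Nat.Prime.pow_dvd_iff_le_factorization Nat.prime_three (Nat.card_pos (α := G)).ne').1 h
  rw [factorization E] at this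
  omega

/-- the centraliser of an element of order 3 is not abelian -/
theorem not_abCent (E : Ext (xC x)) (h : LinElim.AbCent G) : False := by
  have h3 : Fact (Nat.Prime 3) := ⟨Nat.prime_three⟩
  obtain ⟨T⟩ : Nonempty (Sylow 3 (Subgroup.centralizer ({x} : Set G))) := inferInstance
  apply E.not_comm T
  refine ⟨⟨fun a b => ?_⟩⟩
  apply Subtype.ext
  apply Subtype.ext
  exact h x (cube E) (ne_one E) _ _ (Subgroup.mem_centralizer_singleton_iff.1 a.1.2)
    (Subgroup.mem_centralizer_singleton_iff.1 b.1.2)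

theorem exists_eleven (E : Ext (xC x)) : ∃ w : G, w ^ 11 = 1 ∧ w ≠ 1 ∧ x * w = w * x := by
  have p11 : Fact (Nat.Prime 11) := ⟨by norm_num⟩
  have h1 : 11 ∣ Nat.card (Subgroup.centralizer ({x} : Set G)) := by
    rw [E.card_C]; exact Dvd.dvd.mul_right (by norm_num) _
  obtain ⟨w, hw⟩ := exists_prime_orderOf_dvd_card' 11 h1
  refine ⟨w, ?_, ?_, (Subgroup.mem_centralizer_singleton_iff.1 w.2).symm⟩
  · have : w ^ 11 = 1 := by rw [← hw]; exact pow_orderOf_eq_one w
    exact_mod_cast congrArg Subtype.val this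
  · intro h
    have : w = 1 := Subtype.ext h
    rw [this, orderOf_one] at hw
    omega

omit [Finite G] in
theorem ext_mk (hx : orderOf x = 3)
    (hperf : ⁅(⊤ : Subgroup ↥(Subgroup.centralizer ({x} : Set G))),
      (⊤ : Subgroup ↥(Subgroup.centralizer ({x} : Set G)))⁆ = ⊤)
    (hZ : IsCyclic ↥(Subgroup.center ↥(Subgroup.centralizer ({x} : Set G))))
    (hZc : Nat.card ↥(Subgroup.center ↥(Subgroup.centralizer ({x} : Set G))) = 3 ∨
      Nat.card ↥(Subgroup.center ↥(Subgroup.centralizer ({x} : Set G))) = 6)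
    (e : ↥(Subgroup.centralizer ({x} : Set G)) ⧸ Subgroup.center ↥(Subgroup.centralizer ({x} : Set G)) ≃*
      ↥Cfsg.Spor.M22) : Ext (xC x) where
  ox := by rw [← hx]; exact Subgroup.orderOf_mk x _
  cent := xC_mem_center x
  perf := hperf
  cyc := hZ
  card := hZc
  quot := ⟨e⟩

/-- **The simple case.** -/
theorem isoJ4 (T : OrderTable.{u}) (hK : IsKnownSimple' G) (E : Ext (xC x))
    (hcl : ∀ y z : G, orderOf y = 3 → orderOf z = 3 → IsConj y z) : Spor.IsoJ4 G := by
  have hna : ¬ ∀ a b : G, a * b = b * a := by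
    intro h
    exact not_abCent E (fun _ _ _ g k _ _ => h g k)
  rcases OrdElim.elim T hK hna (dvd27 E) (not81 E) (dvd_of_ext E (by norm_num)) (dvd_of_ext E (by norm_num)) with
    ⟨F, _, _, ⟨e⟩⟩ | ⟨F, _, _, hF, ⟨e⟩⟩ | ⟨F, _, _, q, hF, hq, ⟨e⟩⟩ | ⟨F, _, _, h1, hF, ⟨e⟩⟩ | h | h
  · exact (not_abCent E (LinElim.abCent_congr e LinElim.psl_two)).elim
  · exact (not_abCent E (LinElim.abCent_congr e (LinElim.psl_three hF))).elim
  · exact (not_abCent E (LinElim.abCent_congr e (LinElim.psu_three hF hq))).elim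
  · refine (GTwoElim.elim hF h1 (T.g2 F) e hcl ?_ (dvd_of_ext E (by norm_num))).elim
    intro y hy
    rw [← cent_conj (hcl x y (ox E) hy)]
    exact card_dvd_of_ext E
  · obtain ⟨w, hw, hw1, hc⟩ := exists_eleven E
    exact (ne_one E (MTwentyFour.elim h (cube E) hw hw1 hc)).elim
  · exact h

end

end Cfsg.Agent.H337.SimpleCase
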