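import Cfsg.Agent.H337.GenCase
import Cfsg.Prelude.Def_JankoFourType

/-!
# In a group of Janko-four type the centraliser of some element of order 3 is not `3·M22`
-/

set_option autoImplicit false

namespace Cfsg.Agent.H337.GenJ4

open Cfsg Cfsg.Agent.H337.ThreeCent Cfsg.Agent.H337.ThreeGroup Cfsg.Agent.H337.GenCase

theorem center_M22 {C : Type*} [Group C] [Finite C] {x : C} (E : Ext x) {m : Spor.M22}
    (hm : ∀ n : Spor.M22, n * m = m * n) : m = 1 := by
  obtain ⟨e⟩ := E.quot
  obtain ⟨c, hc⟩ := QuotientGroup.mk_surjective (e.symm m)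
  have h1 : c ∈ Subgroup.center C := by
    apply cent_quot E
    intro g
    rw [← QuotientGroup.eq_one_iff]
    apply e.injective
    rw [QuotientGroup.mk_mul, QuotientGroup.mk_mul, QuotientGroup.mk_mul, QuotientGroup.mk_inv,
      QuotientGroup.mk_inv, hc, map_mul, map_mul, map_mul, map_inv, map_inv, e.apply_symm_apply, map_one,
      ← hm]
    group
  have h2 := (QuotientGroup.eq_one_iff _).2 h1
  rw [hc] at h2
  have h3 := congrArg e h2
  rwa [e.apply_symm_apply, map_one] at h3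

theorem card_mulAut {C : Type*} [Group C] [Finite C] {x : C} (E : Ext x) [Finite (MulAut Spor.M22)] :
    443520 ≤ Nat.card (MulAut Spor.M22) := by
  rw [← Cfsg.Agent.SporadicA.MathieuRecog.card_M22]
  apply Nat.card_le_card_of_injective (fun m : Spor.M22 => MulAut.conj m)
  rw [show (fun m : Spor.M22 => MulAut.conj m) = ⇑(MulAut.conj (G := Spor.M22)) from rfl, injective_iff_map_eq_one]
  intro m hm
  apply center_M22 E
  intro n
  have h1 : m * n * m⁻¹ = n := by
    have := congrArg (fun f : MulAut Spor.M22 => f n) hm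
    simpa using this
  rw [mul_inv_eq_iff_eq_mul] at h1
  exact h1.symm

theorem card_le_two {G : Type*} [Group G] [Finite G] {r : G} {M : Subgroup G}
    (h : ∀ m ∈ M, m * r * m⁻¹ = r ∨ m * r * m⁻¹ = r⁻¹) :
    Nat.card M ≤ 2 * Nat.card (M ⊓ Subgroup.centralizer ({r} : Set G) : Subgroup G) := by
  classical
  have key : ∀ m ∈ M, m * r * m⁻¹ = r → m ∈ M ⊓ Subgroup.centralizer ({r} : Set G) := by
    intro m hm h1
    refine ⟨hm, Subgroup.mem_centralizer_singleton_iff.2 ?_⟩
    rwa [mul_inv_eq_iff_eq_mul] at h1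
  by_cases hex : ∃ m0 ∈ M, m0 * r * m0⁻¹ = r⁻¹
  · obtain ⟨m0, hm0, h0⟩ := hex
    have h2 : ∀ m ∈ M, m * r * m⁻¹ ≠ r → m0⁻¹ * m ∈ M ⊓ Subgroup.centralizer ({r} : Set G) := by
      intro m hm h1
      have h3 := (h m hm).resolve_left h1
      apply key _ (mul_mem (inv_mem hm0) hm)
      calc m0⁻¹ * m * r * (m0⁻¹ * m)⁻¹ = m0⁻¹ * (m * r * m⁻¹) * m0 := by group
        _ = m0⁻¹ * (m0 * r * m0⁻¹) * m0 := by rw [h3, h0]
        _ = r := by group
    let f : M → Bool × (M ⊓ Subgroup.centralizer ({r} : Set G) : Subgroup G) := fun m =>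
      if h1 : (m : G) * r * (m : G)⁻¹ = r then (true, ⟨m, key m m.2 h1⟩)
      else (false, ⟨m0⁻¹ * m, h2 m m.2 h1⟩)
    have hf : Function.Injective f := by
      intro a b hab
      by_cases ha : (a : G) * r * (a : G)⁻¹ = r <;> by_cases hb : (b : G) * r * (b : G)⁻¹ = r
      · simp only [f, dif_pos ha, dif_pos hb, Prod.mk.injEq, Subtype.mk.injEq, true_and] at hab
        exact Subtype.ext hab
      · simp only [f, dif_pos ha, dif_neg hb, Prod.mk.injEq] at hab
        exact absurd hab.1 (by decide)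
      · simp only [f, dif_neg ha, dif_pos hb, Prod.mk.injEq] at hab
        exact absurd hab.1 (by decide)
      · simp only [f, dif_neg ha, dif_neg hb, Prod.mk.injEq, Subtype.mk.injEq, true_and] at hab
        exact Subtype.ext (mul_left_cancel hab)
    have h4 := Nat.card_le_card_of_injective f hf
    rw [Nat.card_prod, Nat.card_eq_fintype_card (α := Bool), Fintype.card_bool] at h4
    exact h4
  · push Not at hex
    have h5 : M ≤ M ⊓ Subgroup.centralizer ({r} : Set G) := fun m hm =>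
      key m hm ((h m hm).resolve_right (hex m hm))
    have h6 := Subgroup.card_le_of_le h5
    omega

/-- **The contradiction.** -/
theorem no_three {G : Type*} [Group G] [Finite G] {z : G} {P : Subgroup G} (h : IsOfJankoFourTypeWith z P)
    (hE : ∀ r : G, orderOf r = 3 → Ext (xC r))
    (hZ : ∀ r : G, orderOf r = 3 → Nat.card (Subgroup.center (Subgroup.centralizer ({r} : Set G))) = 3) :
    False := by
  have p3 : Fact (Nat.Prime 3) := ⟨Nat.prime_three⟩
  obtain ⟨hz, -, h13, -, ⟨N, hEN, hNH, -, hNc, ⟨hnorm, ⟨e⟩⟩, hPN⟩, hP, hC, -, -⟩ := h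
  -- `P = ⟨r⟩`
  obtain ⟨r, hr⟩ := exists_prime_orderOf_dvd_card' (G := P) 3 (by rw [hP])
  have hr' : orderOf (r : G) = 3 := by rw [← hr]; exact Subgroup.orderOf_coe r
  have hPr : Subgroup.zpowers (r : G) = P := by
    apply Subgroup.eq_of_le_of_card_ge
    · rw [Subgroup.zpowers_le]; exact r.2
    · rw [Nat.card_zpowers, hr', hP]
  have E := hE r hr'
  have hzE : z ∈ twoCoreOfCentralizer z ⊓ Subgroup.centralizer (P : Set G) := by
    rw [hC]; exact Subgroup.mem_zpowers z
  have hzr : z * r = r * z := by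
    exact (Subgroup.mem_centralizer_iff.1 hzE.2 r r.2).symm
  have hPH : P ≤ Subgroup.centralizer ({z} : Set G) := hPN.trans hNH
  -- work in the centralizer `H`
  obtain ⟨H, hH⟩ : ∃ H : Subgroup G, H = Subgroup.centralizer ({z} : Set G) := ⟨_, rfl⟩
  have hnorm' : (N.subgroupOf H).Normal := by rw [hH]; exact hnorm
  have e' : H ⧸ N.subgroupOf H ≃* MulAut Spor.M22 := by subst hH; exact e
  have hNH' : N ≤ H := by rw [hH]; exact hNH
  have hPH' : P ≤ H := by rw [hH]; exact hPH
  have hfin : Finite (MulAut Spor.M22) := Finite.of_equiv _ e'.toEquiv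
  have hidx : 443520 ≤ (N.subgroupOf H).index := by
    have h1 : (N.subgroupOf H).index = Nat.card (MulAut Spor.M22) := Nat.card_congr e'.toEquiv
    rw [h1]; exact card_mulAut E
  obtain ⟨N', hN'⟩ : ∃ N' : Subgroup H, N' = N.subgroupOf H := ⟨_, rfl⟩
  rw [← hN'] at hidx hnorm'
  obtain ⟨P', hP'⟩ : ∃ P' : Subgroup H, P' = P.subgroupOf H := ⟨_, rfl⟩
  have hPN' : P' ≤ N' := by
    intro y hy
    rw [hN', Subgroup.mem_subgroupOf]
    rw [hP', Subgroup.mem_subgroupOf] at hy
    exact hPN hy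
  have cN' : Nat.card N' = 3 * 2 ^ 13 := by
    rw [hN', Nat.card_congr (Subgroup.subgroupOfEquivOfLe hNH').toEquiv, hNc, h13]
  have cP' : Nat.card P' = 3 := by
    rw [hP', Nat.card_congr (Subgroup.subgroupOfEquivOfLe hPH').toEquiv, hP]
  have cPN : Nat.card (P'.subgroupOf N') = 3 ^ (Nat.card N').factorization 3 := by
    rw [Nat.card_congr (Subgroup.subgroupOfEquivOfLe hPN').toEquiv, cP', cN']
    have : (3 * 2 ^ 13).factorization 3 = 1 := by
      rw [Nat.factorization_mul (by norm_num) (by norm_num), Nat.Prime.factorization Nat.prime_three,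
        Nat.Prime.factorization_pow Nat.prime_two]
      simp
    rw [this, pow_one]
  have hfr := Sylow.normalizer_sup_eq_top (Sylow.ofCard (P'.subgroupOf N') cPN)
  have hmap : ((Sylow.ofCard (P'.subgroupOf N') cPN : Sylow 3 N') : Subgroup N').map N'.subtype = P' := by
    show (P'.subgroupOf N').map N'.subtype = P'
    rw [Subgroup.subgroupOf_map_subtype, inf_of_le_left hPN']
  have hfr' : Subgroup.normalizer (P' : Set H) ⊔ N' = ⊤ := by
    have := congrArg (fun Q : Subgroup H => Subgroup.normalizer (Q : Set H) ⊔ N') hmap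
    exact this.symm.trans hfr
  obtain ⟨M, hM⟩ : ∃ M : Subgroup H, M = Subgroup.normalizer (P' : Set H) := ⟨_, rfl⟩
  rw [← hM] at hfr'
  -- the order of `M`
  have hrel : N'.index = N'.relIndex M := by
    rw [← Subgroup.relIndex_top_right, ← hfr', Subgroup.relIndex_sup_right]
  have hcardM : N'.relIndex M * Nat.card (N' ⊓ M : Subgroup H) = Nat.card M := by
    rw [← Subgroup.inf_relIndex_right, mul_comm, ← Subgroup.relIndex_bot_left, ← Subgroup.relIndex_bot_left]
    exact Subgroup.relIndex_mul_relIndex _ _ _ bot_le inf_le_right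
  have hrH : (r : G) ∈ H := hPH' r.2
  have hzH : z ∈ H := by
    rw [hH, Subgroup.mem_centralizer_singleton_iff]
  have hrM : (⟨r, hrH⟩ : H) ∈ N' ⊓ M := by
    have hmem : (⟨r, hrH⟩ : H) ∈ P' := by rw [hP']; exact Subgroup.mem_subgroupOf.2 r.2
    refine ⟨hPN' hmem, ?_⟩
    rw [hM]
    exact Subgroup.le_normalizer hmem
  have hPmem : ∀ y : H, y ∈ P' ↔ (y : G) ∈ Subgroup.zpowers (r : G) := by
    intro y
    rw [hP', Subgroup.mem_subgroupOf, hPr]
  have hzM : (⟨z, hzH⟩ : H) ∈ N' ⊓ M := by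
    refine ⟨?_, ?_⟩
    · rw [hN']; exact Subgroup.mem_subgroupOf.2 (hEN hzE.1)
    · rw [hM]
      refine Subgroup.mem_normalizer_iff.2 fun y => ?_
      have : (⟨z, hzH⟩ : H) * y * (⟨z, hzH⟩ : H)⁻¹ = y := by
        apply Subtype.ext
        show z * y * z⁻¹ = y
        have hHC : ∀ g : G, g ∈ H → g * z = z * g := fun g hg => by
          rw [hH] at hg
          exact Subgroup.mem_centralizer_singleton_iff.1 hg
        rw [← hHC y y.2, mul_inv_cancel_right]
      rw [this]
  have h6 : 6 ≤ Nat.card (N' ⊓ M : Subgroup H) := by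
    have h2 : 2 ∣ Nat.card (N' ⊓ M : Subgroup H) := by
      have h7 : orderOf (⟨⟨z, hzH⟩, hzM⟩ : (N' ⊓ M : Subgroup H)) = 2 := by
        rw [Subgroup.orderOf_mk, Subgroup.orderOf_mk]; exact hz
      rw [← h7]; exact orderOf_dvd_natCard _
    have h3 : 3 ∣ Nat.card (N' ⊓ M : Subgroup H) := by
      have h7 : orderOf (⟨⟨r, hrH⟩, hrM⟩ : (N' ⊓ M : Subgroup H)) = 3 := by
        rw [Subgroup.orderOf_mk, Subgroup.orderOf_mk]; exact hr'
      rw [← h7]; exact orderOf_dvd_natCard _
    have h5 : 0 < Nat.card (N' ⊓ M : Subgroup H) := Nat.card_pos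
    omega
  have hMcard : 443520 * 6 ≤ Nat.card M := by
    rw [← hcardM, ← hrel]
    exact Nat.mul_le_mul hidx h6
  -- `M` acts on `⟨r⟩`
  have hinv : ∀ m ∈ M, m * (⟨r, hrH⟩ : H) * m⁻¹ = ⟨r, hrH⟩ ∨ m * (⟨r, hrH⟩ : H) * m⁻¹ = (⟨r, hrH⟩ : H)⁻¹ := by
    intro m hm
    rw [hM, Subgroup.mem_normalizer_iff] at hm
    have h8 : m * (⟨r, hrH⟩ : H) * m⁻¹ ∈ P' := (hm _).1 ((hPmem _).2 (Subgroup.mem_zpowers _))
    have hr3 : (r : G) ^ 3 = 1 := by rw [← hr']; exact pow_orderOf_eq_one _
    rcases zpow_cases hr3 ((hPmem _).1 h8) with h9 | h9 | h9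
    · exfalso
      have h10 : m * (⟨r, hrH⟩ : H) * m⁻¹ = 1 := Subtype.ext h9
      rw [mul_inv_eq_one, mul_eq_left] at h10
      have h11 : (r : G) = 1 := congrArg Subtype.val h10
      rw [h11, orderOf_one] at hr'
      omega
    · left; exact Subtype.ext h9
    · right; exact Subtype.ext h9
  have hle := card_le_two hinv
  -- the image in the centralizer of `r`
  obtain ⟨Q, hQ⟩ : ∃ Q : Subgroup G, Q = (M ⊓ Subgroup.centralizer ({(⟨r, hrH⟩ : H)} : Set H)).map H.subtype :=
    ⟨_, rfl⟩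
  have hQr : Q ≤ Subgroup.centralizer ({(r : G)} : Set G) := by
    rw [hQ]
    rintro _ ⟨y, hy, rfl⟩
    have h12 := Subgroup.mem_centralizer_singleton_iff.1 hy.2
    exact Subgroup.mem_centralizer_singleton_iff.2 (congrArg Subtype.val h12)
  have hQz : Q ≤ Subgroup.centralizer ({z} : Set G) := by
    rw [hQ, ← hH]
    rintro _ ⟨y, -, rfl⟩
    exact y.2
  have hQc : Nat.card Q = Nat.card (M ⊓ Subgroup.centralizer ({(⟨r, hrH⟩ : H)} : Set H) : Subgroup H) := by
    rw [hQ]
    exact (Nat.card_congr (Subgroup.equivMapOfInjective _ _ (Subgroup.subtype_injective _)).toEquiv).symm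
  have hCr : Nat.card (Subgroup.centralizer ({(r : G)} : Set G)) = 443520 * 3 := by
    rw [E.card_C, hZ r hr']
  have hQeq : Q = Subgroup.centralizer ({(r : G)} : Set G) :=
    Subgroup.eq_of_le_of_card_ge hQr (by rw [hCr, hQc]; omega)
  -- `z` is central of order 2
  have hzc : z ∈ Subgroup.centralizer ({(r : G)} : Set G) := Subgroup.mem_centralizer_singleton_iff.2 hzr
  have hzz : (⟨z, hzc⟩ : Subgroup.centralizer ({(r : G)} : Set G)) ∈
      Subgroup.center (Subgroup.centralizer ({(r : G)} : Set G)) := by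
    rw [Subgroup.mem_center_iff]
    intro y
    apply Subtype.ext
    have hy : (y : G) ∈ Q := by rw [hQeq]; exact y.2
    exact Subgroup.mem_centralizer_singleton_iff.1 (hQz hy)
  have h13 : orderOf (⟨⟨z, hzc⟩, hzz⟩ : Subgroup.center (Subgroup.centralizer ({(r : G)} : Set G))) = 2 := by
    rw [Subgroup.orderOf_mk, Subgroup.orderOf_mk]; exact hz
  have h14 := orderOf_dvd_natCard (⟨⟨z, hzc⟩, hzz⟩ : Subgroup.center (Subgroup.centralizer ({(r : G)} : Set G)))
  rw [h13, hZ r hr'] at h14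
  omega

end Cfsg.Agent.H337.GenJ4
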