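import Cfsg.Agent.H337.GenJ4
import Cfsg.Agent.H337.JankoOfIso

/-!
# `J4` from the centraliser `3·M22` or `6·M22` of an element of order 3: the general case
-/

set_option autoImplicit false

namespace Cfsg.Agent.H337.GenMain

open Cfsg Cfsg.Agent.OrdDiv Cfsg.Agent.H337.ThreeCent Cfsg.Agent.H337.ThreeGroup Cfsg.Agent.H337.GenCase

universe u

section

variable {G : Type u} [Group G] [Finite G] {x : G}

/-- the elements of a normal subgroup of order prime to 3 -/
theorem normal_elt (E : Ext (xC x)) (hcl : ∀ u : G, orderOf u = 3 → IsConj x u)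
    {K : Subgroup G} (hK : K.Normal) (h3 : ¬ 3 ∣ Nat.card K) {k : G} (hk : k ∈ K) :
    (∀ g : G, g * x = x * g → k * g = g * k) ∧ k * x = x * k ∧
      k ^ Nat.card (Subgroup.center (Subgroup.centralizer ({x} : Set G))) = 1 := by
  have hE : ∀ a : G, orderOf a = 3 → Ext (xC a) := fun a ha => ext_conj E (hcl a ha)
  have h1 : k * x = x * k :=
    Subgroup.mem_centralizer_singleton_iff.1 (normal_cent hE hK h3 (ox E) hk)
  have h2 : ∀ g : G, g * x = x * g → k * g = g * k := fun g hg => inf_cent E hK h3 hk h1 hg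
  refine ⟨h2, h1, ?_⟩
  have hkc : (⟨k, Subgroup.mem_centralizer_singleton_iff.2 h1⟩ : Subgroup.centralizer ({x} : Set G)) ∈
      Subgroup.center (Subgroup.centralizer ({x} : Set G)) := by
    rw [Subgroup.mem_center_iff]
    intro g
    exact Subtype.ext (h2 g (Subgroup.mem_centralizer_singleton_iff.1 g.2)).symm
  have h4 : (⟨_, hkc⟩ : Subgroup.center (Subgroup.centralizer ({x} : Set G))) ^
      Nat.card (Subgroup.center (Subgroup.centralizer ({x} : Set G))) = 1 := pow_card_eq_one'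
  exact congrArg (fun y : Subgroup.center (Subgroup.centralizer ({x} : Set G)) => ((y : Subgroup.centralizer ({x} : Set G)) : G)) h4

theorem normal_eq_bot (E : Ext (xC x)) (hcl : ∀ u : G, orderOf u = 3 → IsConj x u)
    (hZ : Nat.card (Subgroup.center (Subgroup.centralizer ({x} : Set G))) = 3)
    {K : Subgroup G} (hK : K.Normal) (h3 : ¬ 3 ∣ Nat.card K) : K = ⊥ := by
  rw [eq_bot_iff]
  intro k hk
  have h4 := (normal_elt E hcl hK h3 hk).2.2
  rw [hZ] at h4
  have h5 : (⟨k, hk⟩ : K) ^ Nat.card K = 1 := pow_card_eq_one'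
  have h6 : k ^ Nat.card K = 1 := congrArg Subtype.val h5
  have h7 : orderOf k = 1 := Nat.eq_one_of_dvd_coprimes
    ((Nat.Prime.coprime_iff_not_dvd Nat.prime_three).2 h3) (orderOf_dvd_of_pow_eq_one h4)
    (orderOf_dvd_of_pow_eq_one h6)
  rw [Subgroup.mem_bot]
  exact orderOf_eq_one_iff.1 h7

theorem normal_sq (E : Ext (xC x)) (hcl : ∀ u : G, orderOf u = 3 → IsConj x u)
    {K : Subgroup G} (hK : K.Normal) (h3 : ¬ 3 ∣ Nat.card K) {k : G} (hk : k ∈ K) : k ^ 2 = 1 := by
  have h4 : k ^ 6 = 1 := by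
    have h4 := (normal_elt E hcl hK h3 hk).2.2
    rcases E.card with h | h
    · rw [h] at h4
      rw [show 6 = 3 * 2 by norm_num, pow_mul, h4, one_pow]
    · rwa [h] at h4
  have h5 : (⟨k, hk⟩ : K) ^ Nat.card K = 1 := pow_card_eq_one'
  have h6 : k ^ Nat.card K = 1 := congrArg Subtype.val h5
  have h7 : Nat.Coprime 3 (Nat.card K) := (Nat.Prime.coprime_iff_not_dvd Nat.prime_three).2 h3
  have h8 : orderOf (k ^ 2) = 1 := by
    apply Nat.eq_one_of_dvd_coprimes h7
    · apply orderOf_dvd_of_pow_eq_one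
      rw [← pow_mul]; exact h4
    · apply orderOf_dvd_of_pow_eq_one
      rw [← pow_mul, mul_comm, pow_mul, h6, one_pow]
  exact orderOf_eq_one_iff.1 h8

/-- the quotient by a normal subgroup of order prime to 3 -/
theorem quot_cl (E : Ext (xC x)) (hcl : ∀ u : G, orderOf u = 3 → IsConj x u)
    {K : Subgroup G} [hK : K.Normal] (h3 : ¬ 3 ∣ Nat.card K) (u : G ⧸ K) (hu : orderOf u = 3) :
    IsConj (x : G ⧸ K) u := by
  have p3 : Fact (Nat.Prime 3) := ⟨Nat.prime_three⟩
  obtain ⟨v, rfl⟩ := QuotientGroup.mk_surjective u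
  have hv3 : v ^ 3 ∈ K := by
    rw [← QuotientGroup.eq_one_iff, QuotientGroup.mk_pow, ← hu]
    exact pow_orderOf_eq_one _
  have hv6 : v ^ 6 = 1 := by
    have := normal_sq E hcl hK h3 hv3
    rwa [← pow_mul] at this
  have hc3 : (v : G ⧸ K) ^ 3 = 1 := by rw [← hu]; exact pow_orderOf_eq_one _
  have h4 : ((v ^ 4 : G) : G ⧸ K) = v := by
    rw [QuotientGroup.mk_pow, pow_succ, hc3, one_mul]
  have h12 : (v ^ 4) ^ 3 = 1 := by
    rw [← pow_mul, show 4 * 3 = 6 * 2 by norm_num, pow_mul, hv6, one_pow]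
  have h1 : v ^ 4 ≠ 1 := by
    intro h
    rw [h, QuotientGroup.mk_one] at h4
    rw [← h4, orderOf_one] at hu
    omega
  have h5 := (QuotientGroup.mk' K).map_isConj (hcl (v ^ 4) (orderOf_eq_prime h12 h1))
  rw [← h4]
  exact h5

/-- the map of centralisers -/
def phi (K : Subgroup G) [K.Normal] (x : G) :
    Subgroup.centralizer ({x} : Set G) →* Subgroup.centralizer ({(x : G ⧸ K)} : Set (G ⧸ K)) :=
  ((QuotientGroup.mk' K).comp (Subgroup.subtype _)).codRestrict _ (fun c => by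
    rw [Subgroup.mem_centralizer_singleton_iff]
    show ((c : G) : G ⧸ K) * (x : G ⧸ K) = (x : G ⧸ K) * ((c : G) : G ⧸ K)
    rw [← QuotientGroup.mk_mul, Subgroup.mem_centralizer_singleton_iff.1 c.2, QuotientGroup.mk_mul])

theorem phi_surj (E : Ext (xC x)) (hcl : ∀ u : G, orderOf u = 3 → IsConj x u)
    {K : Subgroup G} [hK : K.Normal] (h3 : ¬ 3 ∣ Nat.card K) : Function.Surjective (phi K x) := by
  intro d
  obtain ⟨g, hg⟩ := QuotientGroup.mk_surjective (d : G ⧸ K)
  have hd := Subgroup.mem_centralizer_singleton_iff.1 d.2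
  rw [← hg, ← QuotientGroup.mk_mul, ← QuotientGroup.mk_mul] at hd
  have hk : (x * g)⁻¹ * (g * x) ∈ K := QuotientGroup.eq.1 hd.symm
  obtain ⟨k, hk0⟩ : ∃ k, k = (x * g)⁻¹ * (g * x) := ⟨_, rfl⟩
  rw [← hk0] at hk
  -- `g * x = x * g * k`, so `g x g⁻¹ = x k'`
  have hk' : g * k * g⁻¹ ∈ K := hK.conj_mem _ hk g
  obtain ⟨l, hl0⟩ : ∃ l, l = g * k * g⁻¹ := ⟨_, rfl⟩
  rw [← hl0] at hk'
  have h5 : g * x * g⁻¹ = x * l := by rw [hl0, hk0]; group
  have hlx : l * x = x * l := (normal_elt E hcl hK h3 hk').2.1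
  have hl2 := normal_sq E hcl hK h3 hk'
  have h6 : (g * x * g⁻¹) ^ 3 = 1 := by rw [conj_pow, cube E]; group
  have h7 : l = 1 := by
    have hc : Commute x l := hlx.symm
    rw [h5, hc.mul_pow, cube E, one_mul, pow_succ, hl2, one_mul] at h6
    exact h6
  rw [h7, mul_one] at h5
  refine ⟨⟨g, ?_⟩, Subtype.ext hg⟩
  rw [Subgroup.mem_centralizer_singleton_iff]
  exact mul_inv_eq_iff_eq_mul.1 h5

theorem phi_ker (E : Ext (xC x)) (hcl : ∀ u : G, orderOf u = 3 → IsConj x u)
    {K : Subgroup G} [hK : K.Normal] (h3 : ¬ 3 ∣ Nat.card K) :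
    (phi K x).ker ≤ Subgroup.center (Subgroup.centralizer ({x} : Set G)) := by
  intro c hc
  have h4 : ((c : G) : G ⧸ K) = 1 := congrArg Subtype.val hc
  have h5 : (c : G) ∈ K := (QuotientGroup.eq_one_iff _).1 h4
  rw [Subgroup.mem_center_iff]
  intro g
  exact Subtype.ext ((normal_elt E hcl hK h3 h5).1 g (Subgroup.mem_centralizer_singleton_iff.1 g.2)).symm

theorem quot_ext (E : Ext (xC x)) (hcl : ∀ u : G, orderOf u = 3 → IsConj x u)
    {K : Subgroup G} [hK : K.Normal] (h3 : ¬ 3 ∣ Nat.card K) : Ext (xC (x : G ⧸ K)) := by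
  have h1 : phi K x (xC x) = xC (x : G ⧸ K) := rfl
  rw [← h1]
  apply of_surj E (phi K x) (phi_surj E hcl h3) (phi_ker E hcl h3)
  rw [h1]
  intro h
  have h4 : (x : G ⧸ K) = 1 := congrArg Subtype.val h
  exact h3 (three_dvd_of_mem (ox E) ((QuotientGroup.eq_one_iff _).1 h4))

/-- **The general case.** -/
theorem isoJ4 (T : OrderTable.{u}) (S0 : ∀ (Γ : Type u) [Group Γ] [Finite Γ] [IsSimpleGroup Γ], IsKnownSimple' Γ)
    (E : Ext (xC x)) (hcl : ∀ u : G, orderOf u = 3 → IsConj x u) : Spor.IsoJ4 G := by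
  by_cases hK : ∀ K : Subgroup G, K.Normal → ¬ 3 ∣ Nat.card K → K = ⊥
  · have hs := simple_of E hcl hK
    exact SimpleCase.isoJ4 T (S0 G) E (fun y z hy hz => (hcl y hy).symm.trans (hcl z hz))
  · exfalso
    push Not at hK
    obtain ⟨K, hKn, h3, hK1⟩ := hK
    have E' := quot_ext E hcl h3
    have hcl' := quot_cl E hcl h3
    -- the centre has order 3
    have hZ' : Nat.card (Subgroup.center (Subgroup.centralizer ({(x : G ⧸ K)} : Set (G ⧸ K)))) = 3 := by
      rcases E'.card with h | h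
      · exact h
      · exfalso
        have h6 : Nat.card (Subgroup.center (Subgroup.centralizer ({x} : Set G))) ≤ 6 := by
          rcases E.card with h | h <;> omega
        have h7 : Nat.card (Subgroup.centralizer ({x} : Set G)) ≤
            Nat.card (Subgroup.centralizer ({(x : G ⧸ K)} : Set (G ⧸ K))) := by
          rw [E.card_C, E'.card_C, h]
          exact Nat.mul_le_mul_left _ h6
        have h8 : Function.Bijective (phi K x) :=
          (phi_surj E hcl h3).bijective_of_nat_card_le h7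
        apply hK1
        rw [eq_bot_iff]
        intro k hk
        have hkx := (normal_elt E hcl hKn h3 hk).2.1
        have h9 : phi K x ⟨k, Subgroup.mem_centralizer_singleton_iff.2 hkx⟩ = phi K x 1 := by
          rw [map_one]
          exact Subtype.ext ((QuotientGroup.eq_one_iff _).2 hk)
        exact Subgroup.mem_bot.2 (congrArg Subtype.val (h8.1 h9))
    have hs := simple_of E' hcl' (fun L hL hL3 => normal_eq_bot E' hcl' hZ' hL hL3)
    have hJ := SimpleCase.isoJ4 T (S0 (G ⧸ K)) E' (fun y z hy hz => (hcl' y hy).symm.trans (hcl' z hz))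
    obtain ⟨z, P, hzP⟩ := isOfJankoFourType_of_isoJ4 hJ
    apply GenJ4.no_three hzP (fun r hr => ext_conj E' (hcl' r hr))
    intro r hr
    obtain ⟨hn⟩ : Nonempty Unit := ⟨()⟩
    have h1 := SimpleCase.cent_conj (hcl' r hr)
    rw [E'.card_C, (ext_conj E' (hcl' r hr)).card_C, hZ'] at h1
    omega

end

end Cfsg.Agent.H337.GenMain
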