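import Cfsg.Agent.LieRecognition.PSUThreeSylow
import Cfsg.Agent.H337.HeisAut

/-!
# Automorphisms of the Sylow 2-subgroup of `SU₃(2ⁿ)` whose square is inner are trivial on the centre
-/

set_option autoImplicit false

namespace Cfsg.Agent.H337.HeisIdx

open Cfsg Cfsg.Agent.LieRecognition Cfsg.Agent.LieRecognition.HermHeis

variable {F : Type*} [Field F] [CharP F 2] [Finite F] {σ : F →+* F} [hσ : Fact (∀ x, σ (σ x) = x)]

theorem aut_center {q : ℕ} (hq : 1 < q) (hs : ∀ x, σ x = x ^ q) (hF : Nat.card F = q ^ 2)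
    (θ : MulAut (Heis σ)) (h2 : ∀ x, (θ (θ x)).a = x.a) {z : Heis σ} (hz : z.a = 0) : θ z = z := by
  have hsurj := (card_fixed (σ := σ) hq hs hF).2
  have hex := exists_heis_a (σ := σ) hq hs hF
  choose X hX using hex
  have hz0 : ∀ x : Heis σ, x.a = 0 → (θ x).a = 0 := by
    intro x hx
    rw [← HermHeis.mul_self_eq_one_iff] at hx ⊢
    rw [← map_mul, hx, map_one]
  have hθa : ∀ x y : Heis σ, x.a = y.a → (θ x).a = (θ y).a := by
    intro x y h
    have h1 : (x * y⁻¹).a = 0 := by
      rw [mul_a, inv_a, h, CharTwo.add_self_eq_zero]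
    have h3 := hz0 _ h1
    rw [map_mul, map_inv, mul_a, inv_a] at h3
    exact CharTwo.add_eq_zero.1 h3
  classical
  let α : F → F := fun a => (θ (X a)).a
  let β : F → F := fun c => if h : σ c = c then (θ (zet c h)).b else 0
  have hβ : ∀ c (h : σ c = c), β c = (θ (zet c h)).b := fun c h => dif_pos h
  have hα : ∀ x : Heis σ, (θ x).a = α x.a := fun x => hθa _ _ (hX x.a).symm
  have hb : σ z.b = z.b := b_fixed_of_a_eq_zero hz
  have h5 := HeisAut.key (σ := σ) hσ.out hsurj (α := α) (β := β)
    (fun a b => by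
      have h1 : (X (a + b)).a = (X a * X b).a := by rw [hX, mul_a, hX, hX]
      show (θ (X (a + b))).a = (θ (X a)).a + (θ (X b)).a
      rw [hθa _ _ h1, map_mul, mul_a])
    (fun a => by
      show α (α a) = a
      have h1 : α (α a) = (θ (θ (X a))).a := by rw [hα, hα, hX]
      rw [h1, h2, hX])
    (fun c d hc hd => by
      have hcd : σ (c + d) = c + d := by rw [map_add, hc, hd]
      rw [hβ _ hcd, hβ _ hc, hβ _ hd]
      have h1 : (zet (c + d) hcd : Heis σ) = zet c hc * zet d hd := by
        ext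
        · simp
        · simp
      rw [h1, map_mul, mul_b]
      have h4 : (θ (zet c hc)).a = 0 := hz0 _ rfl
      rw [h4, zero_mul, add_zero])
    (fun a => by
      have hc : σ (a * σ a) = a * σ a := by rw [map_mul, sig, mul_comm]
      rw [hβ _ hc]
      have h1 : (zet (a * σ a) hc : Heis σ) = X a * X a := by
        ext
        · simp [CharTwo.add_self_eq_zero]
        · simp [CharTwo.add_self_eq_zero, hX]
      rw [h1, map_mul, mul_b, CharTwo.add_self_eq_zero, zero_add]) hb
  rw [hβ _ hb] at h5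
  have h6 : (zet z.b hb : Heis σ) = z := by
    ext
    · simp [hz]
    · simp
  rw [h6] at h5
  ext
  · rw [hz0 z hz, hz]
  · exact h5

/-- **The theorem on overgroups of index 2.** -/
theorem overgroup {q : ℕ} (hq : 1 < q) (hs : ∀ x, σ x = x ^ q) (hF : Nat.card F = q ^ 2)
    {R : Type*} [Group R] (S : Subgroup R) (e : S ≃* Heis σ) (hidx : S.index = 2) :
    (Subgroup.center S).map S.subtype ≤ Subgroup.center R := by
  have hn : S.Normal := Subgroup.normal_of_index_eq_two hidx
  rintro _ ⟨z, hz, rfl⟩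
  rw [Subgroup.mem_center_iff]
  intro t
  have ht2 : t * t ∈ S := Subgroup.mul_self_mem_of_index_two hidx t
  let θ : MulAut (Heis σ) := e.symm.trans ((MulAut.conjNormal t : MulAut S).trans e)
  have hθ : ∀ s : S, θ (e s) = e (MulAut.conjNormal t s) := by
    intro s
    show e (MulAut.conjNormal t (e.symm (e s))) = _
    rw [e.symm_apply_apply]
  have h2 : ∀ x, (θ (θ x)).a = x.a := by
    intro x
    obtain ⟨s, rfl⟩ := e.surjective x
    rw [hθ, hθ]
    have h3 : (MulAut.conjNormal t) ((MulAut.conjNormal t) s) = ⟨t * t, ht2⟩ * s * (⟨t * t, ht2⟩ : S)⁻¹ := by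
      apply Subtype.ext
      rw [MulAut.conjNormal_apply, MulAut.conjNormal_apply]
      show t * (t * s * t⁻¹) * t⁻¹ = t * t * s * (t * t)⁻¹
      group
    rw [h3, map_mul, map_mul, map_inv, mul_a, mul_a, inv_a]
    linear_combination (CharTwo.add_self_eq_zero (e ⟨t * t, ht2⟩).a)
  have hza : (e z).a = 0 := by
    rw [← mem_center_iff hq hs hF]
    have hz' := Subgroup.mem_center_iff.1 hz
    rw [Subgroup.mem_center_iff]
    intro y
    obtain ⟨s, rfl⟩ := e.surjective y
    rw [← map_mul, hz', map_mul]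
  have h4 := aut_center hq hs hF θ h2 hza
  rw [hθ] at h4
  have h5 : t * z * t⁻¹ = z := by
    have := congrArg Subtype.val (e.injective h4)
    rwa [MulAut.conjNormal_apply] at this
  exact mul_inv_eq_iff_eq_mul.1 h5

end Cfsg.Agent.H337.HeisIdx
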