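import Cfsg.Agent.H337.M22Three
import Cfsg.Agent.S0088

/-!
# Perfect central extensions of `M22` by a group of order 3 or 6: the Sylow 3-subgroups
-/

set_option autoImplicit false

namespace Cfsg.Agent.H337.ThreeCent

open Cfsg

/-- every 3-element of `M22` has order 1 or 3 -/
theorem M22_cube {a : Spor.M22} {k : ℕ} (ha : a ^ 3 ^ k = 1) : a ^ 3 = 1 := by
  have : Fact (Nat.Prime 3) := ⟨Nat.prime_three⟩
  have hfin : Finite Spor.M22 := inferInstance
  by_contra h3
  -- an element of order 9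
  obtain ⟨j, hj⟩ : ∃ j, orderOf a = 3 ^ j := (Nat.dvd_prime_pow Nat.prime_three).1
    (orderOf_dvd_of_pow_eq_one ha) |>.imp fun _ h => h.2
  have hj2 : 2 ≤ j := by
    by_contra hlt
    apply h3
    apply orderOf_dvd_iff_pow_eq_one.1
    rw [hj]
    calc 3 ^ j ∣ 3 ^ 1 := pow_dvd_pow 3 (by omega)
      _ = 3 := by norm_num
  obtain ⟨i, rfl⟩ : ∃ i, j = i + 2 := ⟨j - 2, by omega⟩
  have hb : orderOf (a ^ 3 ^ i) = 9 := by
    rw [orderOf_pow_of_dvd (by positivity) (by rw [hj]; exact pow_dvd_pow 3 (by omega)), hj, pow_add]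
    rw [Nat.mul_div_cancel_left _ (by positivity)]
    norm_num
  set b := a ^ 3 ^ i with hbdef
  -- the Sylow subgroup containing it is cyclic of order 9
  have hpb : IsPGroup 3 (Subgroup.zpowers b) := by
    rw [IsPGroup.iff_card]
    exact ⟨2, by rw [Nat.card_zpowers, hb]; norm_num⟩
  obtain ⟨R, hR⟩ := hpb.exists_le_sylow
  have hcard : Nat.card (R : Subgroup Spor.M22) = 9 := by
    rw [R.card_eq_multiplicity, M22Three.factorization_card]
    norm_num
  have hRb : (R : Subgroup Spor.M22) = Subgroup.zpowers b := by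
    symm
    apply Subgroup.eq_of_le_of_card_ge hR
    rw [hcard, Nat.card_zpowers, hb]
  -- the two commuting elements `S`, `S'` lie in a conjugate of it
  have hp1 : IsPGroup 3 (Subgroup.zpowers M22Three.S) := by
    rw [IsPGroup.iff_card]
    refine ⟨1, ?_⟩
    rw [Nat.card_zpowers, orderOf_eq_prime M22Three.S_cube M22Three.S_ne, pow_one]
  have hS'ne : M22Three.S' ≠ 1 := by
    intro h
    have := M22Three.pow_ne 0 1 (by decide)
    simp [h] at this
  have hp2 : IsPGroup 3 (Subgroup.zpowers M22Three.S') := by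
    rw [IsPGroup.iff_card]
    refine ⟨1, ?_⟩
    rw [Nat.card_zpowers, orderOf_eq_prime M22Three.S'_cube hS'ne, pow_one]
  have hn : Subgroup.zpowers M22Three.S ≤
      Subgroup.normalizer (Subgroup.zpowers M22Three.S' : Set Spor.M22) := by
    rw [Subgroup.zpowers_le]
    apply Subgroup.centralizer_le_normalizer
    rw [Subgroup.mem_centralizer_iff]
    intro y hy
    obtain ⟨k, rfl⟩ := Subgroup.mem_zpowers_iff.1 hy
    have c : Commute M22Three.S M22Three.S' := M22Three.S_comm
    exact (c.symm.zpow_left k).eq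
  obtain ⟨R', hR'⟩ := (hp1.to_sup_of_normal_right' hp2 hn).exists_le_sylow
  obtain ⟨g, hg⟩ := MulAction.exists_smul_eq Spor.M22 R' R
  have key : ∀ y ∈ (R' : Subgroup Spor.M22), y ^ 3 = 1 → ∃ n : ℕ, g * y * g⁻¹ = (b ^ 3) ^ n := by
    intro y hy hy3
    have h1 : g * y * g⁻¹ ∈ (R : Subgroup Spor.M22) := by
      rw [← hg]
      exact ⟨y, hy, rfl⟩
    rw [hRb] at h1
    obtain ⟨n, hn⟩ := (isOfFinOrder_of_finite b).mem_powers_iff_mem_zpowers.2 h1
    have hn' : b ^ n = g * y * g⁻¹ := hn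
    have h2 : b ^ (3 * n) = 1 := by
      rw [mul_comm, pow_mul, hn', conj_pow, hy3]
      group
    have h3 := orderOf_dvd_of_pow_eq_one h2
    rw [hb] at h3
    obtain ⟨m, hm⟩ : 3 ∣ n := by omega
    refine ⟨m, ?_⟩
    rw [← hn', hm, pow_mul]
  have hSR : M22Three.S ∈ (R' : Subgroup Spor.M22) :=
    hR' ((le_sup_left : Subgroup.zpowers M22Three.S ≤ _) (Subgroup.mem_zpowers _))
  have hSR' : M22Three.S' ∈ (R' : Subgroup Spor.M22) :=
    hR' ((le_sup_right : Subgroup.zpowers M22Three.S' ≤ _) (Subgroup.mem_zpowers _))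
  obtain ⟨m, hm⟩ := key _ hSR M22Three.S_cube
  obtain ⟨n, hn⟩ := key _ hSR' M22Three.S'_cube
  have hb9 : (b ^ 3) ^ 3 = 1 := by
    rw [← pow_mul]
    have h9 := pow_orderOf_eq_one b
    rw [hb] at h9
    exact h9
  -- the nine elements `S ^ i * S' ^ j` are conjugate to powers of `b ^ 3`: only three
  have hinj : Function.Injective (fun p : Fin 3 × Fin 3 =>
      (⟨(m * (p.1 : ℕ) + n * (p.2 : ℕ)) % 3, Nat.mod_lt _ (by norm_num)⟩ : Fin 3)) := by
    intro p q hpq
    apply M22Three.pow_injective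
    have h1 : (m * (p.1 : ℕ) + n * (p.2 : ℕ)) % 3 = (m * (q.1 : ℕ) + n * (q.2 : ℕ)) % 3 :=
      congrArg Fin.val hpq
    have h2 : ∀ r : Fin 3 × Fin 3, g * (M22Three.S ^ (r.1 : ℕ) * M22Three.S' ^ (r.2 : ℕ)) * g⁻¹ =
        (b ^ 3) ^ ((m * (r.1 : ℕ) + n * (r.2 : ℕ)) % 3) := by
      intro r
      have h3 : g * (M22Three.S ^ (r.1 : ℕ) * M22Three.S' ^ (r.2 : ℕ)) * g⁻¹ =
          (g * M22Three.S * g⁻¹) ^ (r.1 : ℕ) * (g * M22Three.S' * g⁻¹) ^ (r.2 : ℕ) := by
        rw [conj_pow, conj_pow]; group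
      rw [h3, hm, hn, ← pow_mul (b ^ 3), ← pow_mul (b ^ 3), ← pow_add]
      conv_lhs => rw [← Nat.mod_add_div (m * (r.1 : ℕ) + n * (r.2 : ℕ)) 3, pow_add, pow_mul, hb9,
        one_pow, mul_one]
    have h4 := h2 p
    rw [h1, ← h2 q] at h4
    have h5 := mul_left_cancel (mul_right_cancel h4)
    exact h5
  have := Fintype.card_le_of_injective _ hinj
  simp at this

/-! ### The central extension -/

/-- `C` is a perfect central extension of `M22` by a cyclic group of order 3 or 6, and `x` is a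
central element of order 3 -/
structure Ext {C : Type*} [Group C] (x : C) : Prop where
  ox : orderOf x = 3
  cent : x ∈ Subgroup.center C
  perf : commutator C = ⊤
  cyc : IsCyclic (Subgroup.center C)
  card : Nat.card (Subgroup.center C) = 3 ∨ Nat.card (Subgroup.center C) = 6
  quot : Nonempty (C ⧸ Subgroup.center C ≃* Spor.M22)

section

variable {C : Type*} [Group C] [Finite C] {x : C}

theorem Ext.cube (E : Ext x) : x ^ 3 = 1 := by rw [← E.ox]; exact pow_orderOf_eq_one x

theorem Ext.ne_one (E : Ext x) : x ≠ 1 := by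
  intro h
  have := E.ox
  rw [h, orderOf_one] at this
  omega

theorem Ext.card_C (E : Ext x) : Nat.card C = 443520 * Nat.card (Subgroup.center C) := by
  obtain ⟨e⟩ := E.quot
  rw [Subgroup.card_eq_card_quotient_mul_card_subgroup (Subgroup.center C), Nat.card_congr e.toEquiv,
    Cfsg.Agent.SporadicA.MathieuRecog.card_M22]

theorem Ext.factorization (E : Ext x) : (Nat.card C).factorization 3 = 3 := by
  have key : ∀ n : ℕ, n ≠ 0 → ¬ 3 ∣ n → (27 * n).factorization 3 = 3 := by
    intro n hn h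
    rw [show (27 : ℕ) = 3 ^ 3 by norm_num, Nat.factorization_mul (by norm_num) hn,
      Nat.Prime.factorization_pow Nat.prime_three]
    simp [Nat.factorization_eq_zero_of_not_dvd h]
  rw [E.card_C]
  rcases E.card with h | h <;> rw [h]
  · exact key 49280 (by norm_num) (by norm_num)
  · exact key 98560 (by norm_num) (by norm_num)

theorem Ext.card_sylow (E : Ext x) (T : Sylow 3 C) : Nat.card (T : Subgroup C) = 27 := by
  have : Fact (Nat.Prime 3) := ⟨Nat.prime_three⟩
  rw [T.card_eq_multiplicity, E.factorization]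
  norm_num

/-- a central element with trivial cube is a power of `x` -/
theorem Ext.mem_zpowers (E : Ext x) {z : C} (hz : z ∈ Subgroup.center C) (hz3 : z ^ 3 = 1) :
    z ∈ Subgroup.zpowers x := by
  have := E.cyc
  have h3 : Fact (Nat.Prime 3) := ⟨Nat.prime_three⟩
  -- the cyclic centre has at most 3 elements with trivial cube
  classical
  have : Fintype (Subgroup.center C) := Fintype.ofFinite _
  have h2 := IsCyclic.card_pow_eq_one_le (α := Subgroup.center C) (n := 3) (by norm_num)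
  have hsub : Finset.image (fun i : Fin 3 => (⟨x, E.cent⟩ : Subgroup.center C) ^ (i : ℕ)) Finset.univ ⊆
      Finset.univ.filter (fun a : Subgroup.center C => a ^ 3 = 1) := by
    intro y hy
    obtain ⟨i, -, rfl⟩ := Finset.mem_image.1 hy
    rw [Finset.mem_filter]
    refine ⟨Finset.mem_univ _, ?_⟩
    rw [← pow_mul, mul_comm, pow_mul]
    have h4 : (⟨x, E.cent⟩ : Subgroup.center C) ^ 3 = 1 := Subtype.ext E.cube
    rw [h4, one_pow]
  have hox : orderOf (⟨x, E.cent⟩ : Subgroup.center C) = 3 := by rw [Subgroup.orderOf_mk, E.ox]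
  have hcard : (Finset.image (fun i : Fin 3 => (⟨x, E.cent⟩ : Subgroup.center C) ^ (i : ℕ))
      Finset.univ).card = 3 := by
    rw [Finset.card_image_of_injective]
    · simp
    · intro i j hij
      apply Fin.ext
      have h5 := (pow_inj_mod (x := (⟨x, E.cent⟩ : Subgroup.center C))).1 hij
      rw [hox] at h5
      omega
  have heq := Finset.eq_of_subset_of_card_le hsub (by rw [hcard]; exact h2)
  have hzm : (⟨z, hz⟩ : Subgroup.center C) ∈
      Finset.image (fun i : Fin 3 => (⟨x, E.cent⟩ : Subgroup.center C) ^ (i : ℕ)) Finset.univ := by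
    rw [heq, Finset.mem_filter]
    exact ⟨Finset.mem_univ _, Subtype.ext hz3⟩
  obtain ⟨i, -, hi⟩ := Finset.mem_image.1 hzm
  have h1 : (⟨z, hz⟩ : Subgroup.center C) ∈ Subgroup.zpowers (⟨x, E.cent⟩ : Subgroup.center C) := by
    rw [← hi]; exact Subgroup.pow_mem _ (Subgroup.mem_zpowers _) _
  obtain ⟨k, hk⟩ := Subgroup.mem_zpowers_iff.1 h1
  exact Subgroup.mem_zpowers_iff.2 ⟨k, congrArg Subtype.val hk⟩

/-- a central 3-element is a power of `x` -/
theorem Ext.mem_zpowers' (E : Ext x) {z : C} (hz : z ∈ Subgroup.center C) {k : ℕ}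
    (hz3 : z ^ 3 ^ k = 1) : z ∈ Subgroup.zpowers x := by
  apply E.mem_zpowers hz
  have h6 : z ^ 6 = 1 := by
    have h1 : (⟨z, hz⟩ : Subgroup.center C) ^ Nat.card (Subgroup.center C) = 1 := pow_card_eq_one'
    have h2 : z ^ Nat.card (Subgroup.center C) = 1 := congrArg Subtype.val h1
    rcases E.card with h | h
    · rw [h] at h2
      rw [show 6 = 3 * 2 from rfl, pow_mul, h2, one_pow]
    · rw [h] at h2; exact h2
  have h1 : orderOf z ∣ 3 ^ k := orderOf_dvd_of_pow_eq_one hz3
  have h2 : orderOf z ∣ 6 := orderOf_dvd_of_pow_eq_one h6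
  apply orderOf_dvd_iff_pow_eq_one.1
  obtain ⟨j, -, hj⟩ := (Nat.dvd_prime_pow Nat.prime_three).1 h1
  rw [hj] at h2 ⊢
  have h3 : j < 2 := by
    by_contra hlt
    have h4 : 3 ^ 2 ∣ 3 ^ j := pow_dvd_pow 3 (by omega)
    have h5 := h4.trans h2
    omega
  calc 3 ^ j ∣ 3 ^ 1 := pow_dvd_pow 3 (by omega)
    _ = 3 := by norm_num

theorem Ext.x_mem (E : Ext x) (T : Sylow 3 C) : x ∈ (T : Subgroup C) := by
  have h3 : Fact (Nat.Prime 3) := ⟨Nat.prime_three⟩
  have hn : (Subgroup.zpowers x).Normal := by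
    constructor
    intro y hy g
    obtain ⟨k, rfl⟩ := Subgroup.mem_zpowers_iff.1 hy
    have hc : x ^ k ∈ Subgroup.center C := Subgroup.zpow_mem _ E.cent k
    rw [Subgroup.mem_center_iff] at hc
    rw [hc g, mul_inv_cancel_right]
    exact Subgroup.zpow_mem _ (Subgroup.mem_zpowers x) k
  have hp : IsPGroup 3 (Subgroup.zpowers x) := by
    rw [IsPGroup.iff_card]
    exact ⟨1, by rw [Nat.card_zpowers, E.ox, pow_one]⟩
  exact IsPGroup.le_sylow_of_normal hp T (Subgroup.mem_zpowers x)

theorem pow_27 {T : Sylow 3 C} (E : Ext x) {a : C} (ha : a ∈ (T : Subgroup C)) : a ^ 3 ^ 3 = 1 := by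
  have h1 : (⟨a, ha⟩ : (T : Subgroup C)) ^ Nat.card (T : Subgroup C) = 1 := pow_card_eq_one'
  rw [E.card_sylow T] at h1
  exact congrArg Subtype.val h1

/-- the Sylow 3-subgroups are not abelian -/
theorem Ext.not_comm (E : Ext x) (T : Sylow 3 C) : ¬ IsMulCommutative (T : Subgroup C) := by
  have h3 : Fact (Nat.Prime 3) := ⟨Nat.prime_three⟩
  intro h
  have h1 := Cfsg.Agent.S0088.result (T : Subgroup C) h (by
    rw [E.card_sylow T]
    have h2 : ¬ 3 ∣ (T : Subgroup C).index := T.not_dvd_index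
    have h4 : Nat.Coprime 3 (T : Subgroup C).index := (Nat.Prime.coprime_iff_not_dvd Nat.prime_three).2 h2
    rw [show (27 : ℕ) = 3 ^ 3 by norm_num]
    exact Nat.Coprime.pow_left 3 h4)
  have h2 : x ∈ (T : Subgroup C) ⊓ commutator C ⊓ Subgroup.center C :=
    ⟨⟨E.x_mem T, by rw [E.perf]; trivial⟩, E.cent⟩
  rw [h1] at h2
  exact E.ne_one (Subgroup.mem_bot.1 h2)

/-- commutators of `T` are powers of `x` -/
theorem Ext.comm_mem (E : Ext x) {T : Sylow 3 C} {a b : C} (ha : a ∈ (T : Subgroup C))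
    (hb : b ∈ (T : Subgroup C)) : a * b * a⁻¹ * b⁻¹ ∈ Subgroup.zpowers x := by
  have h3 : Fact (Nat.Prime 3) := ⟨Nat.prime_three⟩
  -- the image of `T` in `C / Z(C)` has order 9
  have hT : (a * b * a⁻¹ * b⁻¹) ∈ (T : Subgroup C) :=
    mul_mem (mul_mem (mul_mem ha hb) (inv_mem ha)) (inv_mem hb)
  refine E.mem_zpowers' (k := 3) ?_ (pow_27 E hT)
  let f := QuotientGroup.mk' (Subgroup.center C)
  have hker : Nat.card ((T : Subgroup C).map f) = 9 := by
    have h4 : (Subgroup.center C).subgroupOf (T : Subgroup C) = Subgroup.zpowers ⟨x, E.x_mem T⟩ := by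
      ext ⟨y, hy⟩
      rw [Subgroup.mem_subgroupOf]
      constructor
      · intro h
        obtain ⟨k, hk⟩ := Subgroup.mem_zpowers_iff.1 (E.mem_zpowers' h (pow_27 E hy))
        exact Subgroup.mem_zpowers_iff.2 ⟨k, Subtype.ext hk⟩
      · intro h
        obtain ⟨k, hk⟩ := Subgroup.mem_zpowers_iff.1 h
        have : x ^ k = y := congrArg Subtype.val hk
        show y ∈ Subgroup.center C
        rw [← this]
        exact Subgroup.zpow_mem _ E.cent k
    have h5 : Nat.card ((T : Subgroup C).map f) * Nat.card ((Subgroup.center C).subgroupOf (T : Subgroup C)) =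
        Nat.card (T : Subgroup C) := by
      let φ : (T : Subgroup C) →* (C ⧸ Subgroup.center C) := f.comp (T : Subgroup C).subtype
      have h6 : φ.ker = (Subgroup.center C).subgroupOf (T : Subgroup C) := by
        ext y
        rw [MonoidHom.mem_ker, Subgroup.mem_subgroupOf]
        exact QuotientGroup.eq_one_iff _
      have h7 : φ.range = (T : Subgroup C).map f := by
        rw [MonoidHom.range_comp, Subgroup.range_subtype]
      rw [← h6, ← h7, Subgroup.card_eq_card_quotient_mul_card_subgroup φ.ker,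
        Nat.card_congr (QuotientGroup.quotientKerEquivRange φ).toEquiv]
    rw [h4, Nat.card_zpowers, Subgroup.orderOf_mk, E.ox, E.card_sylow T] at h5
    omega
  have hcomm := IsPGroup.commutative_of_card_eq_prime_sq (G := (T : Subgroup C).map f) (p := 3)
    (by rw [hker]; norm_num)
  have h4 : f a * f b = f b * f a :=
    congrArg Subtype.val (hcomm ⟨f a, ⟨a, ha, rfl⟩⟩ ⟨f b, ⟨b, hb, rfl⟩⟩)
  rw [← QuotientGroup.eq_one_iff]
  show f (a * b * a⁻¹ * b⁻¹) = 1
  rw [map_mul, map_mul, map_mul, h4, map_inv, map_inv]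
  group

/-- the centre of `T` is `⟨x⟩` -/
theorem Ext.center (E : Ext x) {T : Sylow 3 C} {a : C} (ha : a ∈ (T : Subgroup C))
    (hc : ∀ b ∈ (T : Subgroup C), a * b = b * a) : a ∈ Subgroup.zpowers x := by
  have h3 : Fact (Nat.Prime 3) := ⟨Nat.prime_three⟩
  by_contra hax
  apply E.not_comm T
  -- the centre has order at least 9, so the quotient is cyclic
  have hxc : (⟨x, E.x_mem T⟩ : (T : Subgroup C)) ∈ Subgroup.center (T : Subgroup C) := by
    rw [Subgroup.mem_center_iff]
    intro y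
    exact Subtype.ext (Subgroup.mem_center_iff.1 E.cent y)
  have hac : (⟨a, ha⟩ : (T : Subgroup C)) ∈ Subgroup.center (T : Subgroup C) := by
    rw [Subgroup.mem_center_iff]
    intro y
    exact Subtype.ext (hc y y.2).symm
  have h4 : Nat.card (Subgroup.center (T : Subgroup C)) ∣ 3 ^ 3 := by
    have := Subgroup.card_subgroup_dvd_card (Subgroup.center (T : Subgroup C))
    rw [E.card_sylow T] at this
    exact this
  obtain ⟨j, hj3, hj⟩ := (Nat.dvd_prime_pow Nat.prime_three).1 h4
  have hj2 : 2 ≤ j := by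
    by_contra hlt
    have h5 : Nat.card (Subgroup.center (T : Subgroup C)) ≤ 3 := by
      rw [hj]
      calc 3 ^ j ≤ 3 ^ 1 := Nat.pow_le_pow_right (by norm_num) (by omega)
        _ = 3 := by norm_num
    have h6 : Subgroup.zpowers (⟨x, E.x_mem T⟩ : (T : Subgroup C)) = Subgroup.center (T : Subgroup C) := by
      apply Subgroup.eq_of_le_of_card_ge
      · rw [Subgroup.zpowers_le]; exact hxc
      · rw [Nat.card_zpowers, Subgroup.orderOf_mk, E.ox]; exact h5
    rw [← h6] at hac
    obtain ⟨k, hk⟩ := Subgroup.mem_zpowers_iff.1 hac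
    exact hax (Subgroup.mem_zpowers_iff.2 ⟨k, congrArg Subtype.val hk⟩)
  have hq : Nat.card ((T : Subgroup C) ⧸ Subgroup.center (T : Subgroup C)) ∣ 3 := by
    have h5 := Subgroup.card_eq_card_quotient_mul_card_subgroup (Subgroup.center (T : Subgroup C))
    rw [E.card_sylow T, hj] at h5
    obtain ⟨i, rfl⟩ : ∃ i, j = i + 2 := ⟨j - 2, by omega⟩
    have hi : i < 2 := by omega
    interval_cases i
    · simp at h5; exact ⟨1, by omega⟩
    · simp at h5
      have : Nat.card ((T : Subgroup C) ⧸ Subgroup.center (T : Subgroup C)) = 1 := by omega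
      rw [this]; exact one_dvd _
  have hcyc : IsCyclic ((T : Subgroup C) ⧸ Subgroup.center (T : Subgroup C)) := by
    rcases (Nat.dvd_prime Nat.prime_three).1 hq with h | h
    · have := (Nat.card_eq_one_iff_unique.1 h).1
      exact isCyclic_of_subsingleton
    · exact isCyclic_of_prime_card h
  exact ⟨⟨fun u v => commutative_of_cyclic_center_quotient
    (QuotientGroup.mk' (Subgroup.center (T : Subgroup C))) (by simp) u v⟩⟩

/-- the elements of `T` outside `⟨x⟩` are conjugate in `T` to their products with powers of `x` -/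
theorem Ext.conj_mul (E : Ext x) {T : Sylow 3 C} {b : C} (hb : b ∈ (T : Subgroup C))
    (hbx : b ∉ Subgroup.zpowers x) {z : C} (hz : z ∈ Subgroup.zpowers x) : IsConj b (b * z) := by
  have h3 : Fact (Nat.Prime 3) := ⟨Nat.prime_three⟩
  have : ∃ c ∈ (T : Subgroup C), c * b ≠ b * c := by
    by_contra h
    push Not at h
    exact hbx (E.center hb (fun c hc => (h c hc).symm))
  obtain ⟨c, hc, hcb⟩ := this
  have h4 : b⁻¹ * (c * b * c⁻¹) ∈ Subgroup.zpowers x := by
    have h5 := E.comm_mem (inv_mem hb) hc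
    have h6 : b⁻¹ * c * b⁻¹⁻¹ * c⁻¹ = b⁻¹ * (c * b * c⁻¹) := by group
    rwa [h6] at h5
  set w := b⁻¹ * (c * b * c⁻¹) with hw
  have hw1 : w ≠ 1 := by
    intro h
    apply hcb
    rw [hw, inv_mul_eq_one, eq_mul_inv_iff_mul_eq] at h
    exact h.symm
  have hwc : w ∈ Subgroup.center C := by
    obtain ⟨k, hk⟩ := Subgroup.mem_zpowers_iff.1 h4
    rw [← hk]; exact Subgroup.zpow_mem _ E.cent k
  have hcomm : ∀ y, y * w = w * y := Subgroup.mem_center_iff.1 hwc
  -- `c ^ n * b * c ^ (-n) = b * w ^ n`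
  have hn : ∀ n : ℕ, c ^ n * b * (c ^ n)⁻¹ = b * w ^ n := by
    intro n
    induction n with
    | zero => simp
    | succ n ih =>
      have h5 : c * b * c⁻¹ = b * w := by rw [hw]; group
      calc c ^ (n + 1) * b * (c ^ (n + 1))⁻¹ = c * (c ^ n * b * (c ^ n)⁻¹) * c⁻¹ := by
            rw [pow_succ']; group
        _ = c * (b * w ^ n) * c⁻¹ := by rw [ih]
        _ = c * b * c⁻¹ * (c * w ^ n * c⁻¹) := by group
        _ = b * w * w ^ n := by
            have h6 : c * w ^ n = w ^ n * c := (Commute.pow_right (hcomm c) n).eq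
            rw [h5, h6, mul_inv_cancel_right]
        _ = b * w ^ (n + 1) := by rw [pow_succ', mul_assoc]
  have hzw : z ∈ Subgroup.zpowers w := by
    have h5 : Subgroup.zpowers w = Subgroup.zpowers x := by
      apply Subgroup.eq_of_le_of_card_ge
      · rw [Subgroup.zpowers_le]; exact h4
      · rw [Nat.card_zpowers, E.ox, Nat.card_zpowers]
        have h6 : w ^ 3 = 1 := by
          obtain ⟨k, hk⟩ := Subgroup.mem_zpowers_iff.1 h4
          rw [← hk, ← zpow_natCast, ← zpow_mul, mul_comm, zpow_mul, zpow_natCast, E.cube, one_zpow]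
        rw [orderOf_eq_prime h6 hw1]
    rw [h5]; exact hz
  obtain ⟨n, hn'⟩ := (isOfFinOrder_of_finite w).mem_powers_iff_mem_zpowers.2 hzw
  have hn'' : w ^ n = z := hn'
  rw [isConj_iff]
  exact ⟨c ^ n, by rw [hn n, hn'']⟩

/-- all elements of `T` outside `⟨x⟩` are conjugate -/
theorem Ext.isConj (E : Ext x) {T : Sylow 3 C} {a b : C} (ha : a ∈ (T : Subgroup C))
    (hb : b ∈ (T : Subgroup C)) (hax : a ∉ Subgroup.zpowers x) (hbx : b ∉ Subgroup.zpowers x) :
    IsConj a b := by
  have h3 : Fact (Nat.Prime 3) := ⟨Nat.prime_three⟩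
  obtain ⟨e⟩ := E.quot
  let f : C →* Spor.M22 := e.toMonoidHom.comp (QuotientGroup.mk' (Subgroup.center C))
  have hf : ∀ c, f c = 1 ↔ c ∈ Subgroup.center C := by
    intro c
    show e (QuotientGroup.mk' _ c) = 1 ↔ _
    rw [map_eq_one_iff e e.injective]
    exact QuotientGroup.eq_one_iff c
  have hfs : Function.Surjective f := e.surjective.comp (QuotientGroup.mk'_surjective _)
  have key : ∀ c ∈ (T : Subgroup C), c ∉ Subgroup.zpowers x → orderOf (f c) = 3 := by
    intro c hc hcx
    apply orderOf_eq_prime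
    · apply M22_cube (k := 3)
      rw [← map_pow, pow_27 E hc, map_one]
    · intro h
      exact hcx (E.mem_zpowers' ((hf c).1 h) (pow_27 E hc))
  have hc := M22Three.isConj_three (key a ha hax) (key b hb hbx)
  obtain ⟨g, hg⟩ := isConj_iff.1 hc
  obtain ⟨c, rfl⟩ := hfs g
  have h4 : b⁻¹ * (c * a * c⁻¹) ∈ Subgroup.center C := by
    rw [← hf, map_mul, map_mul, map_mul, map_inv, map_inv, hg, inv_mul_cancel]
  set z := b⁻¹ * (c * a * c⁻¹) with hz
  have hbz : b * z = c * a * c⁻¹ := by rw [hz]; group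
  have hcz : Commute b z := Subgroup.mem_center_iff.1 h4 b
  have h5 : z ^ 3 ^ 3 = 1 := by
    have h6 : (b * z) ^ 3 ^ 3 = 1 := by rw [hbz, conj_pow, pow_27 E ha]; group
    rw [hcz.mul_pow, pow_27 E hb, one_mul] at h6
    exact h6
  have h6 := E.conj_mul hb hbx (E.mem_zpowers' h4 h5)
  rw [hbz] at h6
  have h7 : IsConj a (c * a * c⁻¹) := isConj_iff.2 ⟨c, rfl⟩
  exact h7.trans h6.symm

end

end Cfsg.Agent.H337.ThreeCent
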