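import Cfsg.Agent.H337.ThreeCent

/-!
# Groups with an element of order 3 whose centraliser is a perfect central extension of `M22`
-/

set_option autoImplicit false

namespace Cfsg.Agent.H337.ThreeGroup

open Cfsg Cfsg.Agent.H337.ThreeCent
open scoped Pointwise

variable {G : Type*} [Group G] {x : G}

/-- `x` as an element of its centralizer -/
def xC (x : G) : Subgroup.centralizer ({x} : Set G) := ⟨x, Subgroup.mem_centralizer_singleton_iff.2 rfl⟩

theorem xC_mem_center (x : G) : xC x ∈ Subgroup.center (Subgroup.centralizer ({x} : Set G)) := by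
  rw [Subgroup.mem_center_iff]
  intro y
  exact Subtype.ext (Subgroup.mem_centralizer_singleton_iff.1 y.2)

/-- the Sylow subgroup of the centralizer in the group -/
abbrev T0 (T : Sylow 3 (Subgroup.centralizer ({x} : Set G))) : Subgroup G :=
  (T : Subgroup (Subgroup.centralizer ({x} : Set G))).map (Subgroup.centralizer ({x} : Set G)).subtype

theorem mem_T0 {T : Sylow 3 (Subgroup.centralizer ({x} : Set G))} {y : G} :
    y ∈ T0 T ↔ ∃ h : y ∈ Subgroup.centralizer ({x} : Set G),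
      (⟨y, h⟩ : Subgroup.centralizer ({x} : Set G)) ∈ (T : Subgroup (Subgroup.centralizer ({x} : Set G))) := by
  constructor
  · rintro ⟨z, hz, rfl⟩
    exact ⟨z.2, hz⟩
  · rintro ⟨h, hz⟩
    exact ⟨_, hz, rfl⟩

theorem mem_zpowers_coe {y : Subgroup.centralizer ({x} : Set G)} :
    y ∈ Subgroup.zpowers (xC x) ↔ (y : G) ∈ Subgroup.zpowers x := by
  constructor
  · intro h
    obtain ⟨k, rfl⟩ := Subgroup.mem_zpowers_iff.1 h
    exact Subgroup.mem_zpowers_iff.2 ⟨k, by simp [xC]⟩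
  · intro h
    obtain ⟨k, hk⟩ := Subgroup.mem_zpowers_iff.1 h
    exact Subgroup.mem_zpowers_iff.2 ⟨k, Subtype.ext (by simpa [xC] using hk)⟩

theorem zpow_cases (h3 : x ^ 3 = 1) {y : G} (hy : y ∈ Subgroup.zpowers x) : y = 1 ∨ y = x ∨ y = x⁻¹ := by
  obtain ⟨k, rfl⟩ := Subgroup.mem_zpowers_iff.1 hy
  have h5 : x ^ k = x ^ (k % 3) := by
    conv_lhs => rw [← Int.emod_add_mul_ediv k 3, zpow_add, zpow_mul]
    rw [show x ^ (3 : ℤ) = 1 by exact_mod_cast h3, one_zpow, mul_one]
  rw [h5]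
  have h6 : 0 ≤ k % 3 := Int.emod_nonneg _ (by norm_num)
  have h7 : k % 3 < 3 := Int.emod_lt_of_pos _ (by norm_num)
  interval_cases h : k % 3
  · left; rw [zpow_zero]
  · right; left; rw [zpow_one]
  · right; right
    rw [eq_inv_iff_mul_eq_one, ← zpow_add_one]
    exact_mod_cast h3

section

variable [Finite G]

theorem ox (E : Ext (xC x)) : orderOf x = 3 := by
  rw [← E.ox]; exact (Subgroup.orderOf_mk x _).symm

theorem cube (E : Ext (xC x)) : x ^ 3 = 1 := by rw [← ox E]; exact pow_orderOf_eq_one x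

theorem ne_one (E : Ext (xC x)) : x ≠ 1 := by
  intro h
  have := ox E
  rw [h, orderOf_one] at this
  omega

theorem ne_inv (E : Ext (xC x)) : x ≠ x⁻¹ := by
  intro h
  have h1 : x * x = 1 := by
    conv_lhs => lhs; rw [h]
    exact inv_mul_cancel x
  have h2 := cube E
  rw [pow_succ, pow_two, h1, one_mul] at h2
  exact ne_one E h2

/-- an element of `T0` commuting with `T0` is a power of `x` -/
theorem mem_of_comm (E : Ext (xC x)) {T : Sylow 3 (Subgroup.centralizer ({x} : Set G))} {y : G}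
    (hy : y ∈ T0 T) (hc : ∀ z ∈ T0 T, y * z = z * y) : y ∈ Subgroup.zpowers x := by
  obtain ⟨h, hT⟩ := mem_T0.1 hy
  have h1 := E.center hT (fun b hb => Subtype.ext (hc b ⟨b, hb, rfl⟩))
  exact mem_zpowers_coe.1 h1

theorem x_mem_T0 (E : Ext (xC x)) (T : Sylow 3 (Subgroup.centralizer ({x} : Set G))) : x ∈ T0 T :=
  mem_T0.2 ⟨_, E.x_mem T⟩

theorem comm_x {T : Sylow 3 (Subgroup.centralizer ({x} : Set G))} {y : G} (hy : y ∈ T0 T) :
    y * x = x * y := by
  obtain ⟨h, -⟩ := mem_T0.1 hy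
  exact Subgroup.mem_centralizer_singleton_iff.1 h

/-- an element normalizing `T0` maps `x` to `x` or `x⁻¹` -/
theorem conj_x (E : Ext (xC x)) {T : Sylow 3 (Subgroup.centralizer ({x} : Set G))} {n : G}
    (hn : ∀ y, y ∈ T0 T ↔ n * y * n⁻¹ ∈ T0 T) : n * x * n⁻¹ = x ∨ n * x * n⁻¹ = x⁻¹ := by
  have h1 : n * x * n⁻¹ ∈ Subgroup.zpowers x := by
    apply mem_of_comm E ((hn x).1 (x_mem_T0 E T))
    intro z hz
    have h2 : n⁻¹ * z * n ∈ T0 T := by
      rw [hn]
      have : n * (n⁻¹ * z * n) * n⁻¹ = z := by group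
      rw [this]; exact hz
    have h3 := comm_x h2
    calc n * x * n⁻¹ * z = n * (x * (n⁻¹ * z * n)) * n⁻¹ := by group
      _ = n * ((n⁻¹ * z * n) * x) * n⁻¹ := by rw [h3]
      _ = z * (n * x * n⁻¹) := by group
  rcases zpow_cases (cube E) h1 with h | h | h
  · exfalso
    apply ne_one E
    rw [mul_inv_eq_one, mul_eq_left] at h
    exact h
  · exact Or.inl h
  · exact Or.inr h

/-- the Sylow 3-subgroups of the centralizer are Sylow subgroups of the group -/
theorem exists_sylow (E : Ext (xC x)) (T : Sylow 3 (Subgroup.centralizer ({x} : Set G))) :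
    ∃ S : Sylow 3 G, (S : Subgroup G) = T0 T := by
  have h3 : Fact (Nat.Prime 3) := ⟨Nat.prime_three⟩
  have hp : IsPGroup 3 (T0 T) := T.isPGroup'.map _
  obtain ⟨S, hS⟩ := hp.exists_le_sylow
  refine ⟨S, ?_⟩
  -- `S ∩ C = T0`
  have hSC : ∀ n ∈ (S : Subgroup G), n * x = x * n → n ∈ T0 T := by
    intro n hn hnx
    have h4 : (T : Subgroup (Subgroup.centralizer ({x} : Set G))) ≤
        (S : Subgroup G).subgroupOf (Subgroup.centralizer ({x} : Set G)) := by
      intro y hy
      exact hS ⟨y, hy, rfl⟩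
    have h5 : IsPGroup 3 ((S : Subgroup G).subgroupOf (Subgroup.centralizer ({x} : Set G))) :=
      S.isPGroup'.comap_subtype
    have h6 := T.is_maximal' h5 h4
    refine mem_T0.2 ⟨Subgroup.mem_centralizer_singleton_iff.2 hnx, ?_⟩
    have h7 : (⟨n, Subgroup.mem_centralizer_singleton_iff.2 hnx⟩ : Subgroup.centralizer ({x} : Set G)) ∈
        (S : Subgroup G).subgroupOf (Subgroup.centralizer ({x} : Set G)) := hn
    rw [h6] at h7
    exact h7
  by_contra hne
  have hlt : T0 T < (S : Subgroup G) := lt_of_le_of_ne hS (fun h => hne h.symm)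
  have hnil : Group.IsNilpotent (S : Subgroup G) := S.isPGroup'.isNilpotent
  have hlt' : (T0 T).subgroupOf (S : Subgroup G) < ⊤ := by
    rw [lt_top_iff_ne_top, Ne, Subgroup.subgroupOf_eq_top]
    exact not_le_of_gt hlt
  have hnc := Group.normalizerCondition_of_isNilpotent (G := (S : Subgroup G)) _ hlt'
  obtain ⟨⟨n, hnS⟩, hn1, hn2⟩ := SetLike.exists_of_lt hnc
  apply hn2
  rw [Subgroup.mem_subgroupOf]
  apply hSC n hnS
  have hnorm : ∀ y, y ∈ T0 T ↔ n * y * n⁻¹ ∈ T0 T := by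
    intro y
    have h4 := Subgroup.mem_normalizer_iff.1 hn1
    constructor
    · intro hy
      exact (h4 ⟨y, hS hy⟩).1 hy
    · intro hy
      have hyS : y ∈ (S : Subgroup G) := by
        have h5 := mul_mem (mul_mem (inv_mem hnS) (hS hy)) hnS
        have h6 : n⁻¹ * (n * y * n⁻¹) * n = y := by group
        rwa [h6] at h5
      exact (h4 ⟨y, hyS⟩).2 hy
  rcases conj_x E hnorm with h | h
  · exact mul_inv_eq_iff_eq_mul.1 h
  · -- `n` has odd order and `n ^ 2` commutes with `x`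
    exfalso
    have h4 : Commute (n ^ 2) x := by
      show n ^ 2 * x = x * n ^ 2
      have h5 : n * x = x⁻¹ * n := mul_inv_eq_iff_eq_mul.1 h
      have h6 : n * x⁻¹ = x * n := by
        have h7 : n * x⁻¹ * n⁻¹ = x := by
          have := congrArg (·⁻¹) h
          simpa [mul_assoc] using this
        exact mul_inv_eq_iff_eq_mul.1 h7
      calc n ^ 2 * x = n * (n * x) := by rw [pow_two, mul_assoc]
        _ = n * x⁻¹ * n := by rw [h5, ← mul_assoc]
        _ = x * n ^ 2 := by rw [h6, pow_two, mul_assoc]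
    obtain ⟨k, hk⟩ : ∃ k, n ^ 3 ^ k = 1 := by
      obtain ⟨k, hk⟩ := S.isPGroup' ⟨n, hnS⟩
      exact ⟨k, congrArg Subtype.val hk⟩
    have hodd : Odd (3 ^ k) := Odd.pow (by decide)
    obtain ⟨j, hj⟩ := hodd
    have h5 : n = (n ^ 2) ^ (j + 1) := by
      rw [← pow_mul, show 2 * (j + 1) = 3 ^ k + 1 by omega, pow_succ, hk, one_mul]
    have h6 : Commute n x := by rw [h5]; exact h4.pow_left _
    have h7 : n * x * n⁻¹ = x := by rw [h6.eq, mul_inv_cancel_right]
    exact ne_inv E (h7.symm.trans h)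

/-- fusion: if an element of `T0` outside `⟨x⟩` is conjugate to `x`, then there is one class of
elements of order 3 -/
theorem fus_of (E : Ext (xC x)) {T : Sylow 3 (Subgroup.centralizer ({x} : Set G))} {y : G}
    (hy : y ∈ T0 T) (hyx : y ∉ Subgroup.zpowers x) (hc : IsConj x y) {u : G} (hu : orderOf u = 3) :
    IsConj x u := by
  have h3 : Fact (Nat.Prime 3) := ⟨Nat.prime_three⟩
  -- conjugacy in `T0`
  have key : ∀ a b : G, a ∈ T0 T → b ∈ T0 T → a ∉ Subgroup.zpowers x → b ∉ Subgroup.zpowers x →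
      IsConj a b := by
    intro a b ha hb hax hbx
    obtain ⟨ha1, ha2⟩ := mem_T0.1 ha
    obtain ⟨hb1, hb2⟩ := mem_T0.1 hb
    have h4 := E.isConj ha2 hb2 (fun h => hax (mem_zpowers_coe.1 h)) (fun h => hbx (mem_zpowers_coe.1 h))
    obtain ⟨c, hc⟩ := isConj_iff.1 h4
    exact isConj_iff.2 ⟨c, congrArg Subtype.val hc⟩
  obtain ⟨S, hS⟩ := exists_sylow E T
  have hp : IsPGroup 3 (Subgroup.zpowers u) := by
    rw [IsPGroup.iff_card]
    exact ⟨1, by rw [Nat.card_zpowers, hu, pow_one]⟩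
  obtain ⟨R, hR⟩ := hp.exists_le_sylow
  obtain ⟨g, hg⟩ := MulAction.exists_smul_eq G R S
  have h1 : g * u * g⁻¹ ∈ T0 T := by
    rw [← hS, ← hg]
    exact ⟨u, hR (Subgroup.mem_zpowers _), rfl⟩
  have hug : IsConj (g * u * g⁻¹) u := (isConj_iff.2 ⟨g, rfl⟩ : IsConj u (g * u * g⁻¹)).symm
  refine IsConj.trans ?_ hug
  have hinvc : ∀ a b : G, IsConj a b → IsConj a⁻¹ b⁻¹ := by
    intro a b hab
    obtain ⟨c, hc⟩ := isConj_iff.1 hab
    refine isConj_iff.2 ⟨c, ?_⟩
    rw [← hc]; group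
  by_cases h2 : g * u * g⁻¹ ∈ Subgroup.zpowers x
  · rcases zpow_cases (cube E) h2 with h | h | h
    · exfalso
      rw [mul_inv_eq_one, mul_eq_left] at h
      rw [h, orderOf_one] at hu
      omega
    · rw [h]
    · rw [h]
      have h4 : IsConj y y⁻¹ := key y y⁻¹ hy (inv_mem hy) hyx (fun h => hyx (by
        have := inv_mem h
        rwa [inv_inv] at this))
      exact hc.trans (h4.trans (hinvc _ _ hc.symm))
  · exact hc.trans (key _ _ hy h1 hyx h2)

/-- the centre of a Sylow subgroup, as in the statements -/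
theorem center_map (E : Ext (xC x)) (T : Sylow 3 (Subgroup.centralizer ({x} : Set G))) (S : Sylow 3 G)
    (h : G) (hS : ∀ y, y ∈ (S : Subgroup G) ↔ h⁻¹ * y * h ∈ T0 T) :
    (Subgroup.center ↥(S : Subgroup G)).map (S : Subgroup G).subtype = Subgroup.zpowers (h * x * h⁻¹) := by
  have hx : h * x * h⁻¹ ∈ (S : Subgroup G) := by
    rw [hS]
    have : h⁻¹ * (h * x * h⁻¹) * h = x := by group
    rw [this]; exact x_mem_T0 E T
  apply le_antisymm
  · rintro _ ⟨y, hy, rfl⟩
    have h1 := (hS y).1 y.2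
    have h2 : h⁻¹ * (y : G) * h ∈ Subgroup.zpowers x := by
      apply mem_of_comm E h1
      intro z hz
      have h3 : h * z * h⁻¹ ∈ (S : Subgroup G) := by
        rw [hS]
        have : h⁻¹ * (h * z * h⁻¹) * h = z := by group
        rw [this]; exact hz
      have h4 : (y : G) * (h * z * h⁻¹) = (h * z * h⁻¹) * y :=
        (congrArg Subtype.val (Subgroup.mem_center_iff.1 hy ⟨_, h3⟩)).symm
      calc h⁻¹ * (y : G) * h * z = h⁻¹ * ((y : G) * (h * z * h⁻¹)) * h := by group
        _ = h⁻¹ * ((h * z * h⁻¹) * y) * h := by rw [h4]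
        _ = z * (h⁻¹ * y * h) := by group
    obtain ⟨k, hk⟩ := Subgroup.mem_zpowers_iff.1 h2
    refine Subgroup.mem_zpowers_iff.2 ⟨k, ?_⟩
    rw [conj_zpow, hk]
    show h * (h⁻¹ * (y : G) * h) * h⁻¹ = y
    group
  · rw [Subgroup.zpowers_le]
    refine ⟨⟨h * x * h⁻¹, hx⟩, ?_, rfl⟩
    rw [SetLike.mem_coe, Subgroup.mem_center_iff]
    rintro ⟨y, hy⟩
    apply Subtype.ext
    show y * (h * x * h⁻¹) = h * x * h⁻¹ * y
    have h1 := comm_x ((hS y).1 hy)
    calc y * (h * x * h⁻¹) = h * ((h⁻¹ * y * h) * x) * h⁻¹ := by group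
      _ = h * (x * (h⁻¹ * y * h)) * h⁻¹ := by rw [h1]
      _ = h * x * h⁻¹ * y := by group

/-- **One class of elements of order 3**, from the failure of 3-normality. -/
theorem fus (E : Ext (xC x)) (S : Sylow 3 G) (g : G)
    (hng : ((Subgroup.center ↥(S : Subgroup G)).map (S : Subgroup G).subtype).map
      (MulAut.conj g).toMonoidHom ≤ (S : Subgroup G))
    (hne : ((Subgroup.center ↥(S : Subgroup G)).map (S : Subgroup G).subtype).map
      (MulAut.conj g).toMonoidHom ≠ ((Subgroup.center ↥(S : Subgroup G)).map (S : Subgroup G).subtype))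
    {u : G} (hu : orderOf u = 3) : IsConj x u := by
  have h3 : Fact (Nat.Prime 3) := ⟨Nat.prime_three⟩
  obtain ⟨T⟩ : Nonempty (Sylow 3 (Subgroup.centralizer ({x} : Set G))) := inferInstance
  obtain ⟨S0, hS0⟩ := exists_sylow E T
  obtain ⟨h, hh⟩ := MulAction.exists_smul_eq G S0 S
  have hS : ∀ y, y ∈ (S : Subgroup G) ↔ h⁻¹ * y * h ∈ T0 T := by
    intro y
    rw [← hS0, ← hh]
    constructor
    · rintro ⟨z, hz, rfl⟩
      show h⁻¹ * (h * z * h⁻¹) * h ∈ (S0 : Subgroup G)
      have : h⁻¹ * (h * z * h⁻¹) * h = z := by group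
      rw [this]; exact hz
    · intro hz
      refine ⟨_, hz, ?_⟩
      show h * (h⁻¹ * y * h) * h⁻¹ = y
      group
  rw [center_map E T S h hS] at hng hne
  set x' := h * x * h⁻¹ with hx'
  have hmap : (Subgroup.zpowers x').map (MulAut.conj g).toMonoidHom = Subgroup.zpowers (g * x' * g⁻¹) := by
    rw [MonoidHom.map_zpowers]; rfl
  rw [hmap] at hng hne
  have hy1 : g * x' * g⁻¹ ∈ (S : Subgroup G) := hng (Subgroup.mem_zpowers _)
  have hy2 := (hS _).1 hy1
  set y := h⁻¹ * (g * x' * g⁻¹) * h with hy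
  have hord : orderOf (g * x' * g⁻¹) = 3 := by
    have h4 : g * x' * g⁻¹ = MulAut.conj (g * h) x := by
      rw [hx', MulAut.conj_apply]; group
    rw [h4, MulEquiv.orderOf_eq, ox E]
  have hyx : y ∉ Subgroup.zpowers x := by
    intro hyx
    apply hne
    apply Subgroup.eq_of_le_of_card_ge
    · rw [Subgroup.zpowers_le]
      obtain ⟨k, hk⟩ := Subgroup.mem_zpowers_iff.1 hyx
      refine Subgroup.mem_zpowers_iff.2 ⟨k, ?_⟩
      have h6 : x' ^ k = h * y * h⁻¹ := by rw [hx', conj_zpow, hk]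
      have h7 : h * y * h⁻¹ = g * x' * g⁻¹ := by rw [hy]; group
      rw [h6, h7]
    · rw [Nat.card_zpowers, Nat.card_zpowers, hord]
      have h4 : x' = MulAut.conj h x := by rw [hx', MulAut.conj_apply]
      rw [h4, MulEquiv.orderOf_eq, ox E]
  have hc : IsConj x y := isConj_iff.2 ⟨h⁻¹ * g * h, by rw [hy, hx']; group⟩
  exact fus_of E hy2 hyx hc hu

end

end Cfsg.Agent.H337.ThreeGroup
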