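import Cfsg.Agent.StdU3.Main
import Cfsg.Agent.StdU3.GZeroMk
import Cfsg.Agent.StdU3.GOneMain
import Cfsg.Agent.S1170
import Cfsg.Agent.H337.UThreeList

/-!
# Standard subgroups of type `U₃(2ⁿ)` with cyclic Sylow 2-subgroups of the centraliser: the precise list

S1771 with the list `PSU₃`, `PSL₃`, `PSp₄` instead of `Lie type in characteristic 2`.
-/

set_option autoImplicit false

namespace Cfsg.Agent.H337.UThreeOuter

open scoped commutatorElement
open Cfsg Subgroup Cfsg.Agent.SignalizersComponents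
open Cfsg.Agent.StdL2.Setup Cfsg.Agent.StdL2.Assemble Cfsg.Agent.StdSz Cfsg.Agent.StdSz.Out
open Cfsg.Agent.StdU3 Cfsg.Agent.StdU3.FinalGen Cfsg.Agent.H337.UThreeList

universe u v

/-- the type of the layer -/
theorem list_of_simple (h1170 : S1170Stmt.{u}) (h1169 : S1169Stmt.{u}) (h222 : S0222Stmt.{u})
    {G : Type u} [Group G] [Finite G] {A : Subgroup G} (S : Cfsg.Agent.StdSz.Reduce.Simple A)
    (hR : ∀ R : Sylow 2 ↥(Subgroup.centralizer (A : Set G)),
      IsCyclic ↥(R : Subgroup ↥(Subgroup.centralizer (A : Set G))))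
    (t : G) (ht : orderOf t = 2) (htA : t ∈ Subgroup.centralizer (A : Set G))
    {F : Type v} [Field F] [Fintype F] (a : ℕ) (ha : 2 ≤ a) (hF : Fintype.card F = 4 ^ a)
    (hAX : Nonempty (↥A ⧸ Subgroup.center ↥A ≃* Cfsg.PSU 3 F (2 ^ a)))
    (hout : ∀ (H : Type u) [Group H] [Finite H] (L A : Subgroup H) (t : H), Conf L A t →
      Reduce.Simple A → MainDef.Glob t L →
      Nonempty (↥A ⧸ Subgroup.center ↥A ≃* Cfsg.PSU 3 F (2 ^ a)) →
      t ∉ L ∧ (MainDef.NonAb L ∨ MainDef.Ab L) ∧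
        ∃ P ≤ L, IsPGroup 2 P ∧ ∃ x ∈ P, ∃ y ∈ P, x * y ≠ y * x) :
    List3 ↥(Cfsg.layer G) ∧ t ∉ Cfsg.layer G := by
  have C := conf_of_simple S ht htA hR
  have hLH : Cfsg.layer G ≤ Cfsg.layer G ⊔ Subgroup.zpowers t := le_sup_left
  have hAH : A ≤ Cfsg.layer G ⊔ Subgroup.zpowers t := S.le_layer.trans hLH
  have eL := subgroupOfEquivOfLe hLH
  have eA := subgroupOfEquivOfLe hAH
  have hAX' : Nonempty (↥(A.subgroupOf (Cfsg.layer G ⊔ Subgroup.zpowers t)) ⧸
      Subgroup.center ↥(A.subgroupOf (Cfsg.layer G ⊔ Subgroup.zpowers t)) ≃*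
        Cfsg.PSU 3 F (2 ^ a)) := by
    obtain ⟨f⟩ := hAX
    refine ⟨(QuotientGroup.congr _ _ eA ?_).trans f⟩
    ext x
    constructor
    · rintro ⟨y, hy, rfl⟩
      rw [mem_center_iff]
      intro g
      have h1 := mem_center_iff.mp hy (eA.symm g)
      have h2 := congrArg eA h1
      simpa using h2
    · intro hx
      refine ⟨eA.symm x, ?_, by simp⟩
      rw [SetLike.mem_coe, mem_center_iff]
      intro g
      have h1 := mem_center_iff.mp hx (eA g)
      have h2 := congrArg eA.symm h1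
      simpa using h2
  have hcardA : Nat.card (Cfsg.PSU 3 F (2 ^ a)) ∣
      Nat.card ↥(A.subgroupOf (Cfsg.layer G ⊔ Subgroup.zpowers t)) := by
    obtain ⟨f⟩ := hAX'
    rw [← Nat.card_congr f.toEquiv]
    exact Subgroup.card_quotient_dvd_card _
  obtain ⟨h1, h2, P, hP, hP2, hPc⟩ := hout _ _ _ _ C
    (simple_of_conf C ((two_dvd_psu ha hF).trans hcardA)) (glob_of_conf C) hAX'
  haveI := C.simple
  constructor
  · refine List3.congr eL (list_of_out h1170 h1169 h222 hP2 hP hPc ?_ h2)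
    exact ((FinalRed.three_dvd_psu hF).trans hcardA).trans (Subgroup.card_dvd_of_le C.le)
  · intro h
    exact h1 (mem_subgroupOf.mpr h)

/-- **S1771 with the precise list.** -/
theorem outer {G : Type u} [Group G] [Finite G] {A : Subgroup G} (S : Cfsg.Agent.StdSz.Reduce.Simple A)
    (hR : ∀ R : Sylow 2 ↥(Subgroup.centralizer (A : Set G)),
      IsCyclic ↥(R : Subgroup ↥(Subgroup.centralizer (A : Set G))))
    (t : G) (ht : orderOf t = 2) (htA : t ∈ Subgroup.centralizer (A : Set G))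
    {F : Type v} [Field F] [Fintype F] (a : ℕ) (ha : 2 ≤ a) (hF : Fintype.card F = 4 ^ a)
    (hAX : Nonempty (↥A ⧸ Subgroup.center ↥A ≃* Cfsg.PSU 3 F (2 ^ a))) :
    List3 ↥(Cfsg.layer G) ∧ t ∉ Cfsg.layer G := by
  refine list_of_simple (fun X _ _ _ S B h1 h2 h3 => Cfsg.Agent.S1170.result (G := X) S B h1 h2 h3)
    (fun X _ _ _ S B h1 h2 h3 => Cfsg.Agent.S1169.result (G := X) S B h1 h2 h3)
    (fun X _ _ _ h1 H hH => Cfsg.Agent.S0222.result (G := X) h1 H hH) S hR t ht htA a ha hF hAX ?_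
  intro H _ _ L A t C S hGl hAX'
  haveI := LZeroTop.charP_two hF
  obtain ⟨D, Fl, hDt, hDA, -⟩ := LZeroTop.exists_fld S C.ht C.htA C.cyc ha hF hAX'
  have hAE : Fl.A ≤ L := by rw [hDA]; exact C.le
  have hG : MainDef.Glob D.t L := by rw [hDt]; exact hGl
  obtain ⟨h2, h3⟩ := Main.out Fl hG hAE
    (fun e g c r heS h hg hs => by
      obtain ⟨X, hX⟩ := Cfsg.Agent.StdU3.Next.exists_next D Fl.amb Fl.Sg Fl.Sg_two
        (fun s hs => Fl.Sg_norm s hs)
      exact Cfsg.Agent.StdU3.GZeroMk.exists_gz h hg X (hs X) (fun s hs => hX e heS s hs))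
    (Cfsg.Agent.StdU3.GOneMain.consOne Fl L)
  rw [hDt] at h2
  exact ⟨h2, h3, D.P, fun p hp => hAE (Fl.P_A hp), D.Q_two.to_le D.P_le, Main.P_not_comm Fl⟩

end Cfsg.Agent.H337.UThreeOuter
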