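import Cfsg.Agent.H337.UThreeCase
import Cfsg.Agent.CpAut.Fix

/-!
# The outer case with `L = PSU₃(Q)`: `K = L`
-/

set_option autoImplicit false

namespace Cfsg.Agent.H337.UThreeCase

open Subgroup Cfsg.Agent.LieRecognition Cfsg.Agent.LieRecognition.HermHeis Cfsg.Agent.OddHalf.D4.Basic
open Cfsg.Agent.OddHalf.D4.CommConj (cj mem_cj cj_mul card_cj cj_eq_of_mem_normalizer mem_normalizer_of_cj_eq
  mem_cj_mul)
open Cfsg.Agent.OddHalf.D4.U3.ParDefs
open Cfsg.Agent.H298.UThree Cfsg.Agent.H298.UThree.Act Cfsg.Agent.H337.UThreeRep Cfsg.Agent.H337.UThreeSit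

universe u v w

variable {G : Type u} [Group G] {E K L : Subgroup G} {t : G} [Finite G]

theorem two_pow_of_even {q : ℕ} {F₂ : Type w} [Field F₂] [Fintype F₂] (hF₂ : Fintype.card F₂ = q ^ 2)
    (hq : Even q) (h4 : 4 ≤ q) : ∃ m : ℕ, 2 ≤ m ∧ q = 2 ^ m := by
  obtain ⟨p, hp⟩ := CharP.exists F₂
  obtain ⟨k, hp, hk⟩ := FiniteField.card F₂ p
  have h2 : p = 2 := by
    have h3 : 2 ∣ p ^ (k : ℕ) := by
      rw [← hk, hF₂]
      exact dvd_pow hq.two_dvd (by norm_num)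
    exact ((Nat.prime_dvd_prime_iff_eq Nat.prime_two hp).mp (Nat.prime_two.dvd_of_dvd_pow h3)).symm
  subst h2
  have h3 : q ∣ 2 ^ (k : ℕ) := by
    rw [← hk, hF₂]
    exact dvd_pow_self q (by norm_num)
  obtain ⟨m, -, rfl⟩ := (Nat.dvd_prime_pow Nat.prime_two).mp h3
  refine ⟨m, ?_, rfl⟩
  by_contra hcon
  have : 2 ^ m ≤ 2 ^ 1 := Nat.pow_le_pow_right (by norm_num) (by omega)
  omega

section R

variable {A : Type u} [Group A] [Finite A] {π : ↥(normalizer (K : Set G)) →* A} {I : Subgroup A}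
  {F : Type v} [Field F] [Fintype F] [CharP F 2] {σ : F →+* F}
  [hσ : Fact (∀ x, σ (σ x) = x)] {n : ℕ}

/-- the automorphism of the Heisenberg group induced by an involution -/
theorem fix_Z (p : Par I σ n) {τ : A} (hττ : τ * τ = 1) (hτ : ∀ y ∈ p.S, τ * y * τ⁻¹ ∈ p.S) {z : A}
    (hz : z ∈ p.Z) : τ * z * τ⁻¹ = z := by
  have hti : τ⁻¹ = τ := inv_eq_of_mul_eq_one_left hττ
  let c : ↥p.S ≃* ↥p.S :=
    { toFun := fun s => ⟨τ * s * τ⁻¹, hτ s s.2⟩
      invFun := fun s => ⟨τ * s * τ⁻¹, hτ s s.2⟩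
      left_inv := by
        intro s
        apply Subtype.ext
        show τ * (τ * s * τ⁻¹) * τ⁻¹ = s
        calc τ * (τ * (s : A) * τ⁻¹) * τ⁻¹ = (τ * τ) * s * (τ⁻¹ * τ⁻¹) := by group
          _ = s := by rw [hti, hττ, one_mul, mul_one]
      right_inv := by
        intro s
        apply Subtype.ext
        show τ * (τ * s * τ⁻¹) * τ⁻¹ = s
        calc τ * (τ * (s : A) * τ⁻¹) * τ⁻¹ = (τ * τ) * s * (τ⁻¹ * τ⁻¹) := by group
          _ = s := by rw [hti, hττ, one_mul, mul_one]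
      map_mul' := by
        intro x y
        apply Subtype.ext
        show τ * ((x : A) * y) * τ⁻¹ = τ * x * τ⁻¹ * (τ * y * τ⁻¹)
        group }
  let o : Heis σ ≃* ↥p.S := MonoidHom.ofInjective p.u_inj
  have ho : ∀ x, ((o x : ↥p.S) : A) = p.u x := fun x => rfl
  let θ : MulAut (Heis σ) := o.trans (c.trans o.symm)
  have hθ : ∀ x, p.u (θ x) = τ * p.u x * τ⁻¹ := by
    intro x
    have h1 : o (θ x) = c (o x) := o.apply_symm_apply _
    rw [← ho, h1]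
    rfl
  obtain ⟨y, hy, rfl⟩ := hz
  have h2 : θ y = y := by
    apply Cfsg.Agent.H337.HeisIdx.aut_center p.one_lt p.hs p.hF θ ?_ hy
    intro x
    have h3 : θ (θ x) = x := by
      apply p.u_inj
      rw [hθ, hθ]
      calc τ * (τ * p.u x * τ⁻¹) * τ⁻¹ = (τ * τ) * p.u x * (τ⁻¹ * τ⁻¹) := by group
        _ = p.u x := by rw [hti, hττ, one_mul, mul_one]
    rw [h3]
  rw [← hθ, h2]

include hσ in
theorem caseU3 (s : Sit E K L t) (r : Rep K π I) (p : Par I σ n) [hL : IsSimpleGroup ↥L]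
    (hU : Nonempty ((↥K ⧸ center ↥K) ≃* Cfsg.PSU 3 F (2 ^ n)))
    {F₂ : Type w} [Field F₂] [Fintype F₂] {q : ℕ} (hF₂ : Fintype.card F₂ = q ^ 2) (hq : Even q) (h4 : 4 ≤ q)
    (e : ↥L ≃* Cfsg.PSU 3 F₂ q) : K = L := by
  obtain ⟨m, hm, rfl⟩ := two_pow_of_even hF₂ hq h4
  have hF4 : Fintype.card F₂ = 4 ^ m := by
    rw [hF₂, ← pow_mul, mul_comm m 2, pow_mul]
    norm_num
  -- `L` is not commutative
  have hncK : ∃ x ∈ K, ∃ y ∈ K, x * y ≠ y * x := by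
    by_contra hcon
    push Not at hcon
    have h1 : commutator ↥K = ⊤ := s.cfg.qs.1.commutator_eq_top
    have h2 : commutator ↥K = ⊥ := by
      rw [eq_bot_iff]
      show ⁅(⊤ : Subgroup ↥K), ⊤⁆ ≤ ⊥
      rw [commutator_le]
      intro x _ y _
      rw [mem_bot, commutatorElement_eq_one_iff_mul_comm]
      exact Subtype.ext (hcon x x.2 y y.2)
    have h3 := s.cfg.qs.2
    have h4 : ∀ x : ↥K, x = 1 := by
      intro x
      have h5 : x ∈ (⊤ : Subgroup ↥K) := mem_top x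
      rw [← h1, h2] at h5
      exact mem_bot.mp h5
    obtain ⟨a, ha⟩ := exists_ne (1 : ↥K ⧸ center ↥K)
    obtain ⟨x, rfl⟩ := QuotientGroup.mk_surjective a
    exact ha (by rw [h4 x]; rfl)
  have hcL : center ↥L = ⊥ := by
    rcases hL.eq_bot_or_eq_top_of_normal (center ↥L) inferInstance with h | h
    · exact h
    · exfalso
      obtain ⟨x, hx, y, hy, hne⟩ := hncK
      have h1 : (⟨x, s.KL hx⟩ : ↥L) ∈ center ↥L := by rw [h]; trivial
      have h2 := Subgroup.mem_center_iff.mp h1 ⟨y, s.KL hy⟩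
      exact hne (congrArg Subtype.val h2).symm
  have hqL : Cfsg.IsQuasisimple ↥L := by
    apply Cfsg.Agent.CpAut.Fix.quasisimple_of_simple
    intro hcom
    obtain ⟨x, hx, y, hy, hne⟩ := hncK
    exact hne (congrArg Subtype.val (hcom.is_comm.comm (⟨x, s.KL hx⟩ : ↥L) ⟨y, s.KL hy⟩))
  have hUL : Nonempty ((↥L ⧸ center ↥L) ≃* Cfsg.PSU 3 F₂ (2 ^ m)) := by
    have e1 : (↥L ⧸ center ↥L) ≃* (↥L ⧸ (⊥ : Subgroup ↥L)) := QuotientGroup.quotientMulEquivOfEq hcL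
    exact ⟨(e1.trans QuotientGroup.quotientBot).trans e⟩
  have hodd : Odd (Nat.card ↥(center ↥L)) := by
    rw [hcL, Subgroup.card_bot]
    exact odd_one
  obtain ⟨A2, _, _, _, σ2, _, π2, I2, r2, ⟨p2⟩⟩ := exists_rep hqL hm hF4 hUL
  obtain ⟨P, PK, hP, hPK, hle, htP⟩ := s.exists_syl
  have htL : t ∈ normalizer (L : Set G) := by
    rw [mem_normalizer_iff]
    intro x
    constructor
    · exact s.nor t x
    · intro h
      have h2 := s.nor t⁻¹ _ h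
      have e : t⁻¹ * (t * x * t⁻¹) * t⁻¹⁻¹ = x := by group
      rwa [e] at h2
  have hLN : L ≤ normalizer (L : Set G) := le_normalizer
  -- elements of `C(L) ∩ L` are trivial
  have htriv : ∀ x : ↥(normalizer (L : Set G)), (x : G) ∈ L → π2 x = 1 → x = 1 := by
    intro x hx hx1
    rw [r2.ker] at hx1
    have h1 : (⟨x, hx⟩ : ↥L) ∈ center ↥L := by
      rw [Subgroup.mem_center_iff]
      intro y
      exact Subtype.ext (mem_centralizer_iff.mp hx1 y y.2)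
    rw [hcL, mem_bot] at h1
    have h3 : (x : G) = 1 := congrArg (fun z : ↥L => (z : G)) h1
    exact Subtype.ext h3
  obtain ⟨k, hk, hkS⟩ := r2.amb.exists_cj p2 (syl r2 hP)
  set th : A2 := π2 ⟨t, htL⟩ with hth
  have hthth : th * th = 1 := by
    rw [hth, ← map_mul]
    have : (⟨t, htL⟩ : ↥(normalizer (L : Set G))) * ⟨t, htL⟩ = 1 := Subtype.ext s.tt
    rw [this, map_one]
  have hiff : ∀ y : A2, y ∈ p2.S ↔ k⁻¹ * y * k ∈ im π2 P := by
    intro y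
    rw [← hkS, mem_cj]
  set τ : A2 := k * th * k⁻¹ with hτd
  have hττ : τ * τ = 1 := by
    rw [hτd]
    calc k * th * k⁻¹ * (k * th * k⁻¹) = k * (th * th) * k⁻¹ := by group
      _ = 1 := by rw [hthth]; group
  have hτS : ∀ y ∈ p2.S, τ * y * τ⁻¹ ∈ p2.S := by
    intro y hy
    rw [hiff] at hy ⊢
    obtain ⟨x, hx, hxy⟩ := mem_im.mp hy
    refine mem_im.mpr ⟨⟨t, htL⟩ * x * ⟨t, htL⟩⁻¹, htP x hx, ?_⟩
    rw [map_mul, map_mul, map_inv, hxy, ← hth, hτd]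
    group
  have hfix := fun z hz => fix_Z p2 hττ hτS (z := z) hz
  -- the centre of `P`
  have hzt : ∀ z (hz : z ∈ zt P), ∃ hzN : z ∈ normalizer (L : Set G), k * π2 ⟨z, hzN⟩ * k⁻¹ ∈ p2.Z := by
    intro z hz
    obtain ⟨hz1, hz2⟩ := mem_zt.mp hz
    have hzN := hLN (hP.le hz1)
    refine ⟨hzN, ?_⟩
    apply p2.mem_Z_of_comm
    · rw [hiff]
      refine mem_im.mpr ⟨⟨z, hzN⟩, hz1, ?_⟩
      group
    · intro y hy
      rw [hiff] at hy
      obtain ⟨x, hx, hxy⟩ := mem_im.mp hy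
      have h1 : (⟨z, hzN⟩ : ↥(normalizer (L : Set G))) * x = x * ⟨z, hzN⟩ := Subtype.ext (hz2 x hx)
      have h2 : y = k * π2 x * k⁻¹ := by rw [hxy]; group
      rw [h2]
      calc k * π2 ⟨z, hzN⟩ * k⁻¹ * (k * π2 x * k⁻¹) = k * (π2 ⟨z, hzN⟩ * π2 x) * k⁻¹ := by group
        _ = k * (π2 x * π2 ⟨z, hzN⟩) * k⁻¹ := by rw [← map_mul, h1, map_mul]
        _ = _ := by group
  have hsq : ∀ z ∈ zt P, z * z = 1 := by
    intro z hz
    obtain ⟨hzN, h1⟩ := hzt z hz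
    have h2 := p2.Z_sq h1
    have h3 : π2 (⟨z, hzN⟩ * ⟨z, hzN⟩) = 1 := by
      rw [map_mul]
      have e1 : k * π2 ⟨z, hzN⟩ * k⁻¹ * (k * π2 ⟨z, hzN⟩ * k⁻¹) = k * (π2 ⟨z, hzN⟩ * π2 ⟨z, hzN⟩) * k⁻¹ := by
        group
      rw [e1] at h2
      have := conj_eq_one_iff.mp h2
      exact this
    have h4 := htriv _ (mul_mem (hP.le (mem_zt.mp hz).1) (hP.le (mem_zt.mp hz).1)) h3
    exact congrArg Subtype.val h4
  have hcomm : ∀ z ∈ zt P, z * t = t * z := by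
    intro z hz
    obtain ⟨hzN, h1⟩ := hzt z hz
    have h2 := hfix _ h1
    have h3 : th * π2 ⟨z, hzN⟩ * th⁻¹ = π2 ⟨z, hzN⟩ := by
      rw [hτd] at h2
      have e1 : k * th * k⁻¹ * (k * π2 ⟨z, hzN⟩ * k⁻¹) * (k * th * k⁻¹)⁻¹
          = k * (th * π2 ⟨z, hzN⟩ * th⁻¹) * k⁻¹ := by group
      rw [e1] at h2
      exact mul_left_cancel (mul_right_cancel h2)
    have h4 : π2 (⟨t, htL⟩ * ⟨z, hzN⟩ * ⟨t, htL⟩⁻¹ * ⟨z, hzN⟩⁻¹) = 1 := by
      rw [map_mul, map_mul, map_mul, map_inv, map_inv, ← hth, h3, mul_inv_cancel]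
    have hzL := hP.le (mem_zt.mp hz).1
    have h5 := htriv _ (mul_mem (s.nor t z hzL) (inv_mem hzL)) h4
    have h6 : t * z * t⁻¹ * z⁻¹ = 1 := congrArg Subtype.val h5
    calc z * t = 1 * z * t := by group
      _ = (t * z * t⁻¹ * z⁻¹) * z * t := by rw [h6]
      _ = t * z := by group
  have hzPK : zt P ≤ PK := fun z hz => s.mem_PK r p hP hPK hle hz (hcomm z hz)
  have hcard1 : Nat.card ↥(zt P) ≤ 2 ^ n := card_elem r s.cfg.odd p hsq (hzPK.trans hPK.le)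
  have hcard2 : 2 ^ m ≤ Nat.card ↥(zt P) := by
    have hztL : zt P ≤ L := inf_le_left.trans hP.le
    have hzt2 : IsPGroup 2 ↥(zt P) := isPGroup_of_le hP.two inf_le_left
    rw [← card_im r2 hodd hzt2 hztL, ← p2.card_Z, ← card_cj k⁻¹ p2.Z]
    apply Nat.le_of_dvd Nat.card_pos
    apply Subgroup.card_dvd_of_le
    intro a ha
    rw [mem_cj, inv_inv] at ha
    have h1 := (hiff _).mp (p2.Z_le_S ha)
    have e1 : k⁻¹ * (k * a * k⁻¹) * k = a := by group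
    rw [e1] at h1
    obtain ⟨x, hx, rfl⟩ := mem_im.mp h1
    refine mem_im.mpr ⟨x, mem_zt.mpr ⟨hx, ?_⟩, rfl⟩
    intro y hy
    have hyN := hLN (hP.le hy)
    have h2 : k * π2 ⟨y, hyN⟩ * k⁻¹ ∈ p2.S := by
      rw [hiff]
      refine mem_im.mpr ⟨⟨y, hyN⟩, hy, ?_⟩
      group
    have h3 := p2.Z_comm ha h2
    have h4 : π2 x * π2 ⟨y, hyN⟩ = π2 ⟨y, hyN⟩ * π2 x := by
      have e2 : k * π2 x * k⁻¹ * (k * π2 ⟨y, hyN⟩ * k⁻¹) = k * (π2 x * π2 ⟨y, hyN⟩) * k⁻¹ := by group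
      have e3 : k * π2 ⟨y, hyN⟩ * k⁻¹ * (k * π2 x * k⁻¹) = k * (π2 ⟨y, hyN⟩ * π2 x) * k⁻¹ := by group
      rw [e2, e3] at h3
      exact mul_left_cancel (mul_right_cancel h3)
    have h5 : π2 (x * ⟨y, hyN⟩ * x⁻¹ * ⟨y, hyN⟩⁻¹) = 1 := by
      rw [map_mul, map_mul, map_mul, map_inv, map_inv, h4]
      group
    have h6 := htriv _ (mul_mem (mul_mem (mul_mem (hP.le hx) (hP.le hy)) (inv_mem (hP.le hx)))
      (inv_mem (hP.le hy))) h5
    have h7 : (x : G) * y * (x : G)⁻¹ * y⁻¹ = 1 := congrArg Subtype.val h6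
    calc (x : G) * y = ((x : G) * y * (x : G)⁻¹ * y⁻¹) * y * x := by group
      _ = y * x := by rw [h7, one_mul]
  have hmn : m ≤ n := (Nat.pow_le_pow_iff_right (by norm_num)).mp (hcard2.trans hcard1)
  have hnm : n ≤ m := by
    have h1 := card_syl r s.cfg.odd p hPK
    have h2 := card_syl r2 hodd p2 hP
    have h3 : Nat.card ↥PK ≤ Nat.card ↥P := Nat.le_of_dvd Nat.card_pos (Subgroup.card_dvd_of_le hle)
    rw [h1, h2, ← pow_mul, ← pow_mul, Nat.pow_le_pow_iff_right (by norm_num)] at h3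
    omega
  have hmn' : m = n := le_antisymm hmn hnm
  subst hmn'
  have hFF : Fintype.card F = Fintype.card F₂ := by
    rw [hF4, ← Nat.card_eq_fintype_card, p.hF, ← pow_mul, mul_comm m 2, pow_mul]
    norm_num
  have φ : F ≃+* F₂ := FiniteField.ringEquivOfCardEq hFF
  obtain ⟨e3⟩ := hU
  have h1 : Nat.card (↥K ⧸ center ↥K) = Nat.card ↥L := by
    rw [Nat.card_congr e3.toEquiv, Nat.card_congr e.toEquiv]
    exact Nat.card_congr (Cfsg.Agent.LieClassical.FieldTransfer.psuCongr 3 (2 ^ m) φ).toEquiv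
  have h2 := Subgroup.card_eq_card_quotient_mul_card_subgroup (center ↥K)
  have h3 : Nat.card ↥L ≤ Nat.card ↥K := by
    rw [h2, h1]
    exact Nat.le_mul_of_pos_right _ Nat.card_pos
  exact eq_of_le_of_card_ge s.KL h3

end R

end Cfsg.Agent.H337.UThreeCase
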