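import Cfsg.Agent.H337.UThreeOuter
import Cfsg.Agent.H337.UThreeMain
import Cfsg.Agent.H337.UThreeStd
import Cfsg.Agent.SignalizersComponents.LayerBasic

/-!
# `O(G) = 1`, `Cfg E K`, `|E| = 2`, `K / Z(K) ≅ PSU₃(2 ^ n)`

Then `K ⊴ G`, or `E(G) ≅ K × K`, or `E(G) ≅ PSL₃(4 ^ n)` and `t ∉ E(G)`.
-/

set_option autoImplicit false

namespace Cfsg.Agent.H337.UThreeTwo

open Subgroup Cfsg.Agent.OddHalf.D4.Basic
open Cfsg.Agent.H298.UThree Cfsg.Agent.H337.UThreeRep Cfsg.Agent.H337.UThreeSit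
  Cfsg.Agent.H337.UThreeList

universe u v

variable {G : Type u} [Group G] [Finite G] {E K : Subgroup G} {t : G}

theorem cyclic_of_card {R : Type*} [Group R] (h : Nat.card R = 2) : IsCyclic R := by
  haveI : Fact (Nat.Prime 2) := ⟨Nat.prime_two⟩
  exact isCyclic_of_prime_card h

/-- the Sylow 2-subgroups of `C(K)` have order `|E|` -/
theorem card_sylow (c : Cfg E K) (R : Sylow 2 ↥(centralizer (K : Set G))) :
    Nat.card ↥(R : Subgroup ↥(centralizer (K : Set G))) = Nat.card ↥E := by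
  haveI : Fact (Nat.Prime 2) := ⟨Nat.prime_two⟩
  obtain ⟨P, hP⟩ := c.isSyl.toSylow
  rw [Nat.card_congr (Sylow.equiv R P).toEquiv, hP]
  exact Nat.card_congr (subgroupOfEquivOfLe c.E_le).toEquiv

theorem two (hO : Cfsg.oddCore G = ⊥) (c : Cfg E K) (tE : t ∈ E) (t1 : t ≠ 1) (E2 : ∀ e ∈ E, e = 1 ∨ e = t)
    {F : Type v} [Field F] [Fintype F] {n : ℕ}
    (hn : 2 ≤ n) (hF : Fintype.card F = 4 ^ n) (hU : Nonempty ((↥K ⧸ center ↥K) ≃* Cfsg.PSU 3 F (2 ^ n))) :
    K.Normal ∨ Nonempty (↥(Cfsg.layer G) ≃* ↥K × ↥K) ∨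
      (t ∉ Cfsg.layer G ∧ K ≤ Cfsg.layer G ∧
        Nonempty (↥(Cfsg.layer G) ≃* Matrix.ProjectiveSpecialLinearGroup (Fin 3) F)) := by
  have hst := UThreeStd.standard c hn hF hU
  have ht2 : orderOf t = 2 := orderOf_eq_prime (by rw [pow_two]; exact c.sq t tE) t1
  have hcE : Nat.card ↥E = 2 := by
    have h1 : E = zpowers t := by
      ext x
      constructor
      · intro hx
        rcases E2 x hx with rfl | rfl
        · exact one_mem _
        · exact mem_zpowers _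
      · intro hx
        exact (zpowers_le.mpr tE) hx
    rw [h1, Nat.card_zpowers, ht2]
  by_cases hnK : K.Normal
  · exact Or.inl hnK
  right
  rcases Cfsg.Agent.StdSz.Reduce.prod_or_simple hst hnK hO ht2 (c.E_le tE) with h | S
  · exact Or.inl h
  right
  have hR : ∀ R : Sylow 2 ↥(Subgroup.centralizer (K : Set G)),
      IsCyclic ↥(R : Subgroup ↥(Subgroup.centralizer (K : Set G))) :=
    fun R => cyclic_of_card ((card_sylow c R).trans hcE)
  obtain ⟨h1, h2⟩ := UThreeOuter.outer S hR t ht2 (c.E_le tE) n hn hF hU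
  have hnor : (Cfsg.layer G).Normal := Cfsg.Agent.SignalizersComponents.LayerBasic.layer_normal G
  have s : Sit E K (Cfsg.layer G) t := ⟨c, tE, t1, E2, h2, fun g x hx => hnor.conj_mem x hx g, S.le_layer⟩
  haveI := S.simple
  rcases UThreeMain.main s hn hF hU h1 with h | h
  · exact absurd (h ▸ hnor) hnK
  · exact ⟨h2, S.le_layer, h⟩

end Cfsg.Agent.H337.UThreeTwo
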